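import Cfsg.Agent.S5290
import Cfsg.Agent.S5113
import Cfsg.Agent.S5120
import Cfsg.Agent.Fus93.Criteria
import Cfsg.Agent.S5144
import Cfsg.Agent.Fusion92.WeakEmbed

/-!
# Simple saturated systems: consequences used for rank two realisation
-/

set_option autoImplicit false
set_option linter.unusedSectionVars false
set_option linter.style.haveILetI false

namespace Cfsg.Agent.RankTwoReal36

open Cfsg Cfsg.Agent.Fusion
open Cfsg.FusionSystem (normalizerIn centralizerIn)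

variable {Ω : Type*} [Group Ω] {S : Subgroup Ω} [Finite S] {F : FusionSystem S}

/-- The inner system of a normal subgroup is a normal subsystem. -/
theorem inner_isNormalIn {p : ℕ} [Fact p.Prime] (hS : IsPGroup p S) (hF : F.IsSaturated p)
    {Q : Subgroup Ω} (hQ : F.IsNormal Q) : (Cfsg.innerFusionSystem Q).IsNormalIn F p := by
  refine ⟨(S5290.result p hS F hF Q hQ.1).mp hQ, fun α hα => ?_⟩
  haveI := Fusion.finite_of_le hQ.1
  obtain ⟨φ, hφ, hφα⟩ := ((mem_autGroup le_rfl).mp hα).1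
  obtain ⟨-, t, ht, he⟩ := hφ
  have hcomm : ∀ c ∈ centralizerIn S Q, t * c * t⁻¹ = c := fun c hc => by
    rw [Subgroup.mem_centralizer_iff.mp hc.2 t ht, mul_inv_cancel_right]
  set M := Q ⊔ centralizerIn S Q with hM
  have htM : t ∈ M := Subgroup.mem_sup_left ht
  let β : MulAut M := conjAutHom S M ⟨t, hQ.1 ht, Subgroup.le_normalizer htM⟩
  refine ⟨β, autInducedBy_le_autGroup (sup_le hQ.1 inf_le_left)
    (range_conjAutHom S M ▸ ⟨_, rfl⟩), fun x => ?_, fun c hc => ?_⟩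
  · show t * (x : Ω) * t⁻¹ = _
    rw [← he x, hφα, autFun_coe]
  · show (c : Ω)⁻¹ * (t * (c : Ω) * t⁻¹) ∈ _
    rw [hcomm c hc, inv_mul_cancel]
    exact one_mem _

/-- A proper nontrivial normal subgroup of `S` cannot contain the hyperfocal subgroup of a simple system. -/
theorem not_hyperfocal_le {p : ℕ} [Fact p.Prime] (hS : IsPGroup p S) (hs : F.IsSimple p)
    {M : Subgroup Ω} (hMS : M ≤ S) (hn : (M.subgroupOf S).Normal) (hne : M ≠ S) (hbot : M ≠ ⊥) :
    ¬ F.hyperfocalSubgroup p ≤ M := by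
  intro h
  obtain ⟨E, ⟨hE, hEi⟩, -⟩ := S5113.result p hS F hs.1 M hMS h
  rcases hs.2.2 M E (S5120.result p hS F hs.1 M hMS hn h E hE hEi) with q | q
  · exact hbot q
  · exact hne q.1

/-- If all centric radical subgroups lie in an index two type subgroup then so does the hyperfocal subgroup. -/
theorem hyperfocal_le_of_radical {p : ℕ} [Fact p.Prime] (hS : IsPGroup p S) (hF : F.IsSaturated p)
    {M : Subgroup Ω} (hn : ∀ g ∈ S, ∀ x ∈ M, g * x * g⁻¹ ∈ M)
    (hab : ∀ g ∈ S, ∀ x ∈ S, x⁻¹ * (g * x * g⁻¹) ∈ M)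
    (hself : F.autGroup S ≤ Cfsg.Inn S)
    (h : ∀ P : Subgroup Ω, P ≠ S → F.IsFullyNormalized P → F.IsCentric P → F.IsRadical p P → P ≤ M) :
    F.hyperfocalSubgroup p ≤ M := by
  let E : FusionSystem S := mkSub F S (fun P f => IsMap F P f ∧ ∀ x ∈ P, x⁻¹ * f x ∈ M)
    (fun hf hfg => ⟨hf.1.congr hfg, fun x hx => hfg hx ▸ hf.2 x hx⟩)
    (fun hf => ⟨hf.1, hf.1.dom_le, fun x hx => hf.1.apply_mem hx⟩)
    (fun {P g} hP hg => ⟨isMap_conj hP hg, fun x hx => hab g hg x (hP hx)⟩)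
    (fun {P} {_} {f} {g} hf hg hm => ⟨hf.1.comp hg.1 hm, fun x hx => by
      have e : x⁻¹ * g (f x) = (x⁻¹ * f x) * ((f x)⁻¹ * g (f x)) := by group
      show x⁻¹ * g (f x) ∈ M
      rw [e]
      exact M.mul_mem (hf.2 x hx) (hg.2 _ (hm x hx))⟩)
    (fun {P} {_} {f} {g} hf hi hg hgl => ⟨hg.1, fun y hy => by
      obtain ⟨x, hx, rfl⟩ := hi.exists_preimage hy
      rw [hgl x hx]
      simpa using M.inv_mem (hf.2 x hx)⟩)
  have haut : ∀ (P : Subgroup Ω) (hP : P ≤ S) (α : MulAut P), α ∈ F.autGroup P →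
      (∀ x : P, (x : Ω)⁻¹ * (α x : Ω) ∈ M) → α ∈ E.autGroup P := fun P hP α hα hx =>
    autGroup_mem_of_isMap (isMap_mkSub.mpr ⟨((mem_autGroup hP).mp hα).1, fun x hx' => by
      rw [autFun_of_mem α hx']; exact hx ⟨x, hx'⟩⟩)
  have hle : F ≤ E := by
    refine Fus93.le_of_aut hS hF E (fun α hα => haut S le_rfl α hα fun x => ?_)
      fun P hne hfn hc hr _ α hα => haut P hc.1 α hα fun x => ?_
    · obtain ⟨g, hg, hge⟩ := mem_inn.mp (hself hα)
      rw [hge x]
      exact hab g hg x x.2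
    · have := h P hne hfn hc hr
      exact M.mul_mem (M.inv_mem (this x.2)) (this (α x).2)
  refine Fusion92.WeakEmbed.hyperfocal_le_of fun P hP α hα _ x => ?_
  have h1 := (isMap_mkSub.mp ((((mem_autGroup hP).mp hα).1).of_le hle)).2 x x.2
  rw [autFun_coe] at h1
  simpa using h1

/-- A proper nontrivial index two type subgroup misses some centric radical subgroup of a simple system. -/
theorem exists_radical_not_le {p : ℕ} [Fact p.Prime] (hS : IsPGroup p S) (hs : F.IsSimple p)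
    {M : Subgroup Ω} (hMS : M ≤ S) (hn : ∀ g ∈ S, ∀ x ∈ M, g * x * g⁻¹ ∈ M)
    (hab : ∀ g ∈ S, ∀ x ∈ S, x⁻¹ * (g * x * g⁻¹) ∈ M) (hself : F.autGroup S ≤ Cfsg.Inn S)
    (hne : M ≠ S) (hbot : M ≠ ⊥) :
    ∃ P : Subgroup Ω, P ≠ S ∧ F.IsFullyNormalized P ∧ F.IsCentric P ∧ F.IsRadical p P ∧ ¬ P ≤ M := by
  by_contra! hno
  exact not_hyperfocal_le hS hs hMS ⟨fun x hx g => hn g g.2 x hx⟩ hne hbot
    (hyperfocal_le_of_radical hS hs.1 hn hab hself hno)

/-- Normal subgroups of a simple system on a noncyclic group of composite order are trivial. -/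
theorem normal_eq_bot {p : ℕ} [Fact p.Prime] (hS : IsPGroup p S) (hs : F.IsSimple p)
    (hex : ∃ M : Subgroup Ω, M ≤ S ∧ (M.subgroupOf S).Normal ∧ M ≠ S ∧ M ≠ ⊥)
    {Q : Subgroup Ω} (hQ : F.IsNormal Q) : Q = ⊥ := by
  rcases hs.2.2 Q _ (inner_isNormalIn hS hs.1 hQ) with q | ⟨rfl, hhom⟩
  · exact q
  exfalso
  obtain ⟨M, hMS, hn, hne, hbot⟩ := hex
  obtain ⟨w, hwS, hw⟩ := SetLike.exists_of_lt (lt_of_le_of_ne hMS hne)
  refine not_hyperfocal_le hS hs hMS hn hne hbot ?_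
  refine Fusion92.WeakEmbed.hyperfocal_le_of fun P hP α hα hc x => ?_
  obtain ⟨φ, hφ, hφα⟩ := ((mem_autGroup hP).mp hα).1
  rw [← hhom P] at hφ
  obtain ⟨-, g, hg, he⟩ := hφ
  haveI := Fusion.finite_of_le hP
  have hpow : ∀ (m : ℕ) (y : P), (((α ^ m) y : P) : Ω) = g ^ m * (y : Ω) * (g ^ m)⁻¹ := by
    intro m
    induction m with
    | zero => intro y; simp
    | succ m ih =>
      intro y
      rw [pow_succ, MulAut.mul_apply, ih, pow_succ]
      have h1 : ((α y : P) : Ω) = g * (y : Ω) * g⁻¹ := by rw [← he y, hφα, autFun_coe]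
      rw [h1]; group
  obtain ⟨k, hk⟩ := IsPGroup.iff_orderOf.mp hS ⟨g, hg⟩
  rw [Subgroup.orderOf_mk] at hk
  have h1 : α ^ (p ^ k) = 1 := MulEquiv.ext fun y => Subtype.ext (by
    rw [hpow, ← hk, pow_orderOf_eq_one]; simp)
  have h2 : α = 1 := by
    rw [← orderOf_eq_one_iff]
    exact Nat.Coprime.eq_one_of_dvd (hc.pow_right k) (orderOf_dvd_of_pow_eq_one h1)
  rw [h2]
  simp

theorem center_eq_bot {p : ℕ} [Fact p.Prime] (hS : IsPGroup p S) (hs : F.IsSimple p)
    (hex : ∃ M : Subgroup Ω, M ≤ S ∧ (M.subgroupOf S).Normal ∧ M ≠ S ∧ M ≠ ⊥) : F.center = ⊥ := by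
  refine normal_eq_bot hS hs hex ?_
  refine isNormal_iff.mpr ⟨sSup_le fun Q hQ => hQ.1, ?_⟩
  intro P f hf
  obtain ⟨f', h1, h2, h3⟩ := (isCentral_iff.mp (S5144.result F)).2 P f hf
  refine ⟨f', h1, h2, ?_⟩
  ext y
  constructor
  · rintro ⟨x, hx, rfl⟩
    rw [h3 x hx]; exact hx
  · intro hy
    exact ⟨y, hy, h3 y hy⟩

/-- Only inner automorphisms of `S` occur if `Aut S` has no odd element. -/
theorem autGroup_self_le (hS : IsPGroup 2 S) (hF : F.IsSaturated 2)
    (h : ∀ α : MulAut S, Odd (orderOf α) → α = 1) : F.autGroup S ≤ Cfsg.Inn S := by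
  haveI : Fact (Nat.Prime 2) := ⟨Nat.prime_two⟩
  haveI := Fusion.finite_mulAut S
  obtain ⟨-, R, hR⟩ := fullyAutomized_of_fullyNormalized hS hF (fullyNormalized_self (F := F))
  rw [autInducedBy_self_eq_inn] at hR
  intro α hα
  have hA : IsPGroup 2 (F.autGroup S) := by
    intro a
    obtain ⟨k, o, ho, hko⟩ := Nat.exists_eq_two_pow_mul_odd (orderOf_pos a).ne'
    refine ⟨k, Subtype.ext ?_⟩
    have h1 : orderOf (((a : MulAut S)) ^ (2 ^ k)) = o := by
      rw [orderOf_pow, Subgroup.orderOf_coe, hko, Nat.gcd_mul_right_left,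
        Nat.mul_div_cancel_left _ (Nat.two_pow_pos k)]
    exact h _ (h1.symm ▸ ho)
  have := R.3 (hA.to_subgroup ⊤) le_top
  have h2 : (⟨α, hα⟩ : F.autGroup S) ∈ (R : Subgroup (F.autGroup S)) := this ▸ trivial
  rw [hR] at h2
  exact h2

/-- A centric radical proper subgroup has a nontrivial automorphism of odd order in the system. -/
theorem exists_odd (hS : IsPGroup 2 S) {P : Subgroup Ω} (hne : P ≠ S) (hc : F.IsCentric P)
    (hr : F.IsRadical 2 P) : ∃ α ∈ F.autGroup P, α ≠ 1 ∧ Odd (orderOf α) := by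
  haveI : Fact (Nat.Prime 2) := ⟨Nat.prime_two⟩
  haveI := Fusion.finite_of_le hc.1
  haveI := Fus93.finite_autGroup (F := F) hc.1
  by_contra! hno
  have hA : IsPGroup 2 (F.autGroup P) := by
    intro a
    obtain ⟨k, o, ho, hko⟩ := Nat.exists_eq_two_pow_mul_odd (orderOf_pos a).ne'
    refine ⟨k, Subtype.ext ?_⟩
    by_contra hne'
    refine hno _ (pow_mem a.2 (2 ^ k)) hne' ?_
    rw [orderOf_pow, Subgroup.orderOf_coe, hko, Nat.gcd_mul_right_left,
      Nat.mul_div_cancel_left _ (Nat.two_pow_pos k)]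
    exact ho
  have htop : pCore 2 (F.autGroup P) = ⊤ :=
    top_unique (Thompson.le_pCore inferInstance (hA.to_subgroup ⊤))
  refine (lt_irrefl (Nat.card P) ?_).elim
  refine (Fus93.card_normalizerIn_lt hS hc.1 hne).trans_le (Subgroup.card_le_of_le fun g hg => ?_)
  exact Fus93.mem_of_mem_pCore_radical hc hr hg (htop ▸ trivial)

end Cfsg.Agent.RankTwoReal36
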