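import Cfsg.Agent.RankTwoReal36.Basic
import Cfsg.Agent.Fus93.Small
import Cfsg.Agent.Fus93.Hyperfocal
import Mathlib.GroupTheory.SpecificGroups.Cyclic

/-!
# Candidate subgroups with Klein four central quotient
-/

set_option autoImplicit false
set_option linter.unusedSectionVars false
set_option linter.style.haveILetI false

namespace Cfsg.Agent.RankTwoReal36

open Cfsg Cfsg.Agent.Fusion
open Cfsg.FusionSystem (normalizerIn centralizerIn)

variable {Ω : Type*} [Group Ω]

/-- `P` is generated by a central subgroup `Z` with at most `k` square roots of one and three elements with the same square. -/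
structure Frame (P Z : Subgroup Ω) (k : ℕ) where
  y : Fin 3 → Ω
  a : Ω
  le : Z ≤ P
  mem : ∀ i, y i ∈ P
  sq : ∀ i, y i * y i = a
  sqMem : a ∈ Z
  comm : ∀ i, ∀ t ∈ Z, y i * t = t * y i
  not_mem : ∀ i, y i ∉ Z
  sep : ∀ i j, (y i)⁻¹ * y j ∈ Z → i = j
  cover : ∀ v ∈ P, v ∈ Z ∨ ∃ i, (y i)⁻¹ * v ∈ Z
  gen : P ≤ Subgroup.closure ((Z : Set Ω) ∪ {y 0, y 1})
  roots : Nat.card {t : Ω // t ∈ Z ∧ t * t = 1} ≤ k
  rootsFinite : Finite {t : Ω // t ∈ Z ∧ t * t = 1}

theorem Frame.card_le {P Z : Subgroup Ω} [Finite P] {k : ℕ} (h : Frame P Z k) (A : Subgroup (MulAut P))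
    (hfix : ∀ α ∈ A, ∀ x : P, (x : Ω) ∈ Z → α x = x) : Nat.card A ≤ 6 * k ^ 2 := by
  classical
  haveI := h.rootsFinite
  let I := {t : Ω // t ∈ Z ∧ t * t = 1}
  have hinvZ : ∀ α ∈ A, ∀ x : P, ((α x : P) : Ω) ∈ Z → (x : Ω) ∈ Z := fun α hα x hx => by
    have := hfix α⁻¹ (inv_mem hα) (α x) hx
    rw [MulAut.inv_apply_self] at this
    rw [this]; exact hx
  have hdec : ∀ (α : A) (i : Fin 3), ∃ (j : Fin 3) (t : I),
      (((α : MulAut P) ⟨h.y i, h.mem i⟩ : P) : Ω) = h.y j * (t : Ω) := by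
    intro α i
    set v := (α : MulAut P) ⟨h.y i, h.mem i⟩ with hv
    rcases h.cover v v.2 with q | ⟨j, hj⟩
    · exact absurd (hinvZ α α.2 ⟨h.y i, h.mem i⟩ q) (h.not_mem i)
    · have hvv : (v : Ω) * v = h.a := by
        have e1 : v * v = (α : MulAut P) (⟨h.y i, h.mem i⟩ * ⟨h.y i, h.mem i⟩) := (map_mul _ _ _).symm
        rw [← Subgroup.coe_mul, e1, hfix α α.2 _ (by simp [h.sq i, h.sqMem])]
        simp [h.sq i]
      refine ⟨j, ⟨(h.y j)⁻¹ * v, hj, ?_⟩, by simp⟩
      have hc := h.comm j _ hj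
      have : (v : Ω) * v = h.a * (((h.y j)⁻¹ * v) * ((h.y j)⁻¹ * v)) := by
        rw [← h.sq j]
        calc (v : Ω) * v = h.y j * ((h.y j)⁻¹ * v) * (h.y j * ((h.y j)⁻¹ * v)) := by group
          _ = h.y j * ((((h.y j)⁻¹ * v)) * h.y j) * ((h.y j)⁻¹ * v) := by group
          _ = h.y j * (h.y j * ((h.y j)⁻¹ * v)) * ((h.y j)⁻¹ * v) := by rw [← hc]
          _ = _ := by group
      rw [hvv] at this
      exact (mul_eq_left.mp this.symm)
  choose J T hJT using hdec
  have hJne : ∀ α : A, J α 0 ≠ J α 1 := by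
    intro α q
    have h1 : (((α : MulAut P) (⟨h.y 0, h.mem 0⟩⁻¹ * ⟨h.y 1, h.mem 1⟩) : P) : Ω) ∈ Z := by
      rw [map_mul, map_inv, Subgroup.coe_mul, Subgroup.coe_inv, hJT, hJT, q, mul_inv_rev, mul_assoc,
        inv_mul_cancel_left]
      exact Z.mul_mem (Z.inv_mem (T α 0).2.1) (T α 1).2.1
    exact absurd (h.sep 0 1 (by simpa using hinvZ α α.2 _ h1)) (by decide)
  let f : A → {p : Fin 3 × Fin 3 // p.1 ≠ p.2} × I × I :=
    fun α => (⟨(J α 0, J α 1), hJne α⟩, T α 0, T α 1)
  have hf : Function.Injective f := by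
    intro α β e
    simp only [f, Prod.mk.injEq, Subtype.mk.injEq] at e
    obtain ⟨⟨e0, e1⟩, t0, t1⟩ := e
    have hagree : ∀ i, i = 0 ∨ i = 1 →
        (α : MulAut P) ⟨h.y i, h.mem i⟩ = (β : MulAut P) ⟨h.y i, h.mem i⟩ := by
      rintro i (rfl | rfl) <;> refine Subtype.ext ?_ <;> rw [hJT, hJT]
      · rw [e0, t0]
      · rw [e1, t1]
    let L : Subgroup P :=
      (α : MulAut P).toMonoidHom.eqLocus (β : MulAut P).toMonoidHom
    have hgen : Subgroup.closure ((Z : Set Ω) ∪ {h.y 0, h.y 1}) ≤ L.map P.subtype := by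
      refine (Subgroup.closure_le _).mpr ?_
      rintro v (hv | rfl | rfl)
      · exact ⟨⟨v, h.le hv⟩, (hfix α α.2 ⟨v, h.le hv⟩ hv).trans (hfix β β.2 ⟨v, h.le hv⟩ hv).symm, rfl⟩
      · exact ⟨_, hagree 0 (Or.inl rfl), rfl⟩
      · exact ⟨_, hagree 1 (Or.inr rfl), rfl⟩
    refine Subtype.ext (MulEquiv.ext fun x => ?_)
    obtain ⟨w, hw, hwx⟩ := hgen (h.gen x.2)
    have : w = x := Subtype.ext hwx
    exact this ▸ hw
  refine (Nat.card_le_card_of_injective f hf).trans ?_
  rw [Nat.card_prod, Nat.card_prod, Nat.card_eq_fintype_card (α := {p : Fin 3 × Fin 3 // p.1 ≠ p.2}), pow_two]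
  have h6 : Fintype.card {p : Fin 3 × Fin 3 // p.1 ≠ p.2} = 6 := by decide
  rw [h6]
  exact Nat.mul_le_mul le_rfl (Nat.mul_le_mul h.roots h.roots)

/-- An automorphism of odd order of a cyclic two group is trivial. -/
theorem eq_one_of_cyclic {Z : Type*} [Group Z] [Finite Z] [IsCyclic Z] (hZ : IsPGroup 2 Z)
    (α : MulAut Z) (hα : Odd (orderOf α)) : α = 1 := by
  haveI : Fact (Nat.Prime 2) := ⟨Nat.prime_two⟩
  haveI := Fusion.finite_mulAut Z
  obtain ⟨n, hn⟩ := IsPGroup.iff_card.mp hZ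
  have h1 : orderOf α ∣ Nat.card (MulAut Z) := orderOf_dvd_natCard α
  rw [IsCyclic.card_mulAut, hn] at h1
  rw [← orderOf_eq_one_iff]
  rcases n with _ | n
  · simpa using h1
  · rw [Nat.totient_prime_pow_succ Nat.prime_two] at h1
    simp only [Nat.add_one_sub_one, mul_one] at h1
    exact Nat.Coprime.eq_one_of_dvd ((Nat.coprime_two_right.mpr hα).pow_right n) h1

variable {S : Subgroup Ω} [Finite S] {F E : FusionSystem S}

/-- The automizer of `P` consists of all automorphisms fixing `Z`. -/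
def Full (F : FusionSystem S) (P Z : Subgroup Ω) : Prop :=
  P ≤ S ∧ ∀ α : MulAut P, α ∈ F.autGroup P ↔ ∀ x : P, (x : Ω) ∈ Z → α x = x

theorem Full.autGroup_le {P Z : Subgroup Ω} (hF : Full F P Z) (hE : Full E P Z) :
    F.autGroup P ≤ E.autGroup P := fun α hα => (hE.2 α).mpr ((hF.2 α).mp hα)

theorem mem_autGroup_conj {P P' : Subgroup Ω} (hP : P ≤ S) {g : Ω} (hg : g ∈ S)
    (hPP : ∀ x, x ∈ P ↔ g * x * g⁻¹ ∈ P') {β : MulAut P} {α : MulAut P'}
    (hβα : ∀ (x : P) (y : P'), (y : Ω) = g * x * g⁻¹ → ((α y : P') : Ω) = g * (β x : Ω) * g⁻¹)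
    (hβ : β ∈ F.autGroup P) : α ∈ F.autGroup P' := by
  have hback : ∀ y ∈ P', g⁻¹ * y * g ∈ P := fun y hy => (hPP _).mpr (by simpa [mul_assoc] using hy)
  have hP' : P' ≤ S := fun y hy => by
    have h1 := S.mul_mem (S.mul_mem hg (hP (hback y hy))) (S.inv_mem hg)
    simpa [mul_assoc] using h1
  have h1 : IsMap F P' (fun y => g⁻¹ * y * g⁻¹⁻¹) := isMap_conj hP' (S.inv_mem hg)
  have h2 : IsMap F P (autFun β) := ((mem_autGroup hP).mp hβ).1
  have h3 := (h1.comp h2 (fun y hy => by simpa using hback y hy)).comp (isMap_conj le_rfl hg)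
    (fun y hy => h2.apply_mem (by simpa using hback y hy))
  refine autGroup_mem_of_isMap (h3.congr fun y hy => ?_)
  simp only [Function.comp_apply, inv_inv]
  rw [autFun_of_mem α hy, autFun_of_mem β (hback y hy)]
  exact (hβα ⟨_, hback y hy⟩ ⟨y, hy⟩ (by group)).symm

theorem Full.conj {P P' Z : Subgroup Ω} (h : Full F P Z) {g : Ω} (hg : g ∈ S)
    (hPP : ∀ x, x ∈ P ↔ g * x * g⁻¹ ∈ P') (hZ : ∀ x ∈ Z, g * x * g⁻¹ = x) : Full F P' Z := by
  have hback : ∀ y ∈ P', g⁻¹ * y * g ∈ P := fun y hy => (hPP _).mpr (by simpa [mul_assoc] using hy)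
  have hP' : P' ≤ S := fun y hy => by
    have h1 := S.mul_mem (S.mul_mem hg (h.1 (hback y hy))) (S.inv_mem hg)
    simpa [mul_assoc] using h1
  refine ⟨hP', fun α => ?_⟩
  let e : P ≃* P' :=
    { toFun := fun x => ⟨g * x * g⁻¹, (hPP x).mp x.2⟩
      invFun := fun y => ⟨g⁻¹ * y * g, hback y y.2⟩
      left_inv := fun x => Subtype.ext (by simp [mul_assoc])
      right_inv := fun y => Subtype.ext (by simp [mul_assoc])
      map_mul' := fun x y => Subtype.ext (by simp [mul_assoc]) }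
  let β : MulAut P := (e.trans α).trans e.symm
  have he : ∀ x : P, ((e x : P') : Ω) = g * x * g⁻¹ := fun x => rfl
  have hes : ∀ y : P', ((e.symm y : P) : Ω) = g⁻¹ * y * g := fun x => rfl
  constructor
  · intro hα y hy
    have hβ : β ∈ F.autGroup P := by
      refine mem_autGroup_conj hP' (S.inv_mem hg) (fun z => ?_) (β := α) (fun z w hzw => ?_) hα
      · rw [inv_inv, hPP]
        simp [mul_assoc]
      · have : e w = z := Subtype.ext (by rw [he, hzw]; group)
        show ((e.symm (α (e w)) : P) : Ω) = _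
        rw [this, hes, inv_inv]
    have hx : ((e.symm y : P) : Ω) = y := by
      rw [hes]
      conv_lhs => rw [← hZ y hy]
      group
    have h1 := (h.2 β).mp hβ (e.symm y) (hx ▸ hy)
    change e.symm (α (e (e.symm y))) = e.symm y at h1
    rw [MulEquiv.apply_symm_apply] at h1
    exact e.symm.injective h1
  · intro hfix
    refine mem_autGroup_conj h.1 hg hPP (β := β) (fun x y hxy => ?_) ((h.2 β).mpr fun x hx => ?_)
    · have : e x = y := Subtype.ext ((he x).trans hxy.symm)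
      show _ = g * ((e.symm (α (e x)) : P) : Ω) * g⁻¹
      rw [this, hes]; group
    · show e.symm (α (e x)) = x
      rw [hfix (e x) (by rw [he, hZ x hx]; exact hx), MulEquiv.symm_apply_apply]

/-- A candidate with a nontrivial automorphism of odd order has full automizer. -/
theorem full_of_odd (hS : IsPGroup 2 S) (hF : F.IsSaturated 2) {P Z : Subgroup Ω}
    (hfn : F.IsFullyNormalized P) (hne : P ≠ S) {k : ℕ} (hfr : Frame P Z k) [IsCyclic Z]
    (hZc : ∀ s ∈ S, ∀ t ∈ Z, s * t = t * s)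
    (hinv : ∀ α : MulAut P, ∀ x : P, (x : Ω) ∈ Z → ((α x : P) : Ω) ∈ Z)
    (hC : Nat.card (centralizerIn S P) * k ^ 2 ≤ Nat.card P)
    {α : MulAut P} (hα : α ∈ F.autGroup P) (hα1 : α ≠ 1) (hαo : Odd (orderOf α)) : Full F P Z := by
  classical
  haveI : Fact (Nat.Prime 2) := ⟨Nat.prime_two⟩
  have hPS := hfn.1
  haveI := Fusion.finite_of_le hPS
  haveI := Fusion.finite_mulAut P
  haveI := Fusion.finite_of_le (hfr.le.trans hPS)
  have hZp : IsPGroup 2 Z := hS.of_injective _ (Subgroup.inclusion_injective (hfr.le.trans hPS))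
  let K : Subgroup (MulAut P) :=
    { carrier := {β | ∀ x : P, (x : Ω) ∈ Z → β x = x}
      one_mem' := fun x _ => rfl
      mul_mem' := fun {a b} ha hb x hx => by rw [MulAut.mul_apply, hb x hx, ha x hx]
      inv_mem' := fun {a} ha x hx => by
        conv_lhs => rw [← ha x hx]
        exact MulAut.inv_apply_self P a x }
  have hK : F.autGroup P ≤ K := by
    obtain ⟨-, R, hR⟩ := fullyAutomized_of_fullyNormalized hS hF hfn
    intro β hβ
    have hres : pResidual 2 (F.autGroup P) ≤ K.subgroupOf (F.autGroup P) := by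
      refine (Subgroup.closure_le _).mpr fun γ hγ x hx => ?_
      obtain ⟨δ, hδ', hδd⟩ := Fus93.exists_restrict (γ : MulAut P) (Z.subgroupOf P) fun w hw =>
        hinv γ w hw
      let ez := Subgroup.subgroupOfEquivOfLe hfr.le
      haveI : IsCyclic (Z.subgroupOf P) := ez.isCyclic.mpr inferInstance
      have hzp : IsPGroup 2 (Z.subgroupOf P) := hZp.of_equiv ez.symm
      have hmo : Odd (orderOf (γ : MulAut P)) := by
        rw [Subgroup.orderOf_coe]
        exact Nat.coprime_two_right.mp hγ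
      have := eq_one_of_cyclic hzp δ (hmo.of_dvd_nat hδd)
      have h1 := hδ' ⟨x, hx⟩
      rw [this] at h1
      exact h1.symm
    have hRK : (R : Subgroup (F.autGroup P)) ≤ K.subgroupOf (F.autGroup P) := by
      rw [hR]
      intro γ hγ x hx
      obtain ⟨g, hg, hge⟩ := mem_autInducedBy.mp hγ
      exact Subtype.ext (by rw [hge x, hZc g hg x hx, mul_inv_cancel_right])
    exact (sup_le hRK hres) ((Fus93.sup_eq_top_of_sylow R).ge (Subgroup.mem_top (⟨β, hβ⟩ : F.autGroup P)))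
  -- counting
  haveI : Finite (normalizerIn S P) := Fusion.finite_of_le (Fusion.normalizerIn_le S P)
  haveI : Finite (centralizerIn S P) := Fusion.finite_of_le (Fusion.centralizerIn_le S P)
  set R := autInducedBy S P with hRdef
  have hRle : R ≤ F.autGroup P := autInducedBy_le_autGroup hPS
  have hcop : (Nat.card R).Coprime (orderOf α) := by
    obtain ⟨m, hm⟩ := IsPGroup.iff_card.mp (show IsPGroup 2 (normalizerIn S P) from
      hS.of_injective _ (Subgroup.inclusion_injective inf_le_left))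
    have hd : Nat.card R ∣ 2 ^ m := hm ▸ ⟨_, (card_autInducedBy_mul S P).symm⟩
    exact Nat.Coprime.of_dvd_left hd ((Nat.coprime_two_left.mpr hαo).pow_left m)
  have hprod : Nat.card R * orderOf α ∣ Nat.card (F.autGroup P) := by
    refine hcop.mul_dvd_of_dvd_of_dvd (Subgroup.card_dvd_of_le hRle) ?_
    have : orderOf α = orderOf (⟨α, hα⟩ : F.autGroup P) := (Subgroup.orderOf_mk _ _).symm
    exact this ▸ orderOf_dvd_natCard _
  have h3 : 3 ≤ orderOf α := by
    have h0 := orderOf_pos α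
    have h1 : orderOf α ≠ 1 := fun q => hα1 (orderOf_eq_one_iff.mp q)
    obtain ⟨j, hj⟩ := hαo
    omega
  have hN : 2 * Nat.card P ≤ Nat.card (normalizerIn S P) := by
    obtain ⟨a, ha⟩ := IsPGroup.iff_card.mp (hS.of_injective _ (Subgroup.inclusion_injective hPS))
    obtain ⟨b, hb⟩ := IsPGroup.iff_card.mp (show IsPGroup 2 (normalizerIn S P) from
      hS.of_injective _ (Subgroup.inclusion_injective inf_le_left))
    have hlt := Fus93.card_normalizerIn_lt hS hPS hne
    rw [ha, hb] at hlt ⊢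
    have := (Nat.pow_lt_pow_iff_right (by norm_num : 1 < 2)).mp hlt
    calc 2 * 2 ^ a = 2 ^ (a + 1) := by ring
      _ ≤ 2 ^ b := Nat.pow_le_pow_right (by norm_num) this
  have hKc : Nat.card K ≤ 6 * k ^ 2 := hfr.card_le K fun β hβ => hβ
  have hge : Nat.card K ≤ Nat.card (F.autGroup P) := by
    refine Nat.le_of_mul_le_mul_right (c := Nat.card (centralizerIn S P)) ?_ Nat.card_pos
    calc Nat.card K * Nat.card (centralizerIn S P) ≤ 6 * k ^ 2 * Nat.card (centralizerIn S P) :=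
          Nat.mul_le_mul_right _ hKc
      _ = 6 * (Nat.card (centralizerIn S P) * k ^ 2) := by ring
      _ ≤ 6 * Nat.card P := Nat.mul_le_mul_left _ hC
      _ = 3 * (2 * Nat.card P) := by ring
      _ ≤ orderOf α * Nat.card (normalizerIn S P) := Nat.mul_le_mul h3 hN
      _ = Nat.card R * orderOf α * Nat.card (centralizerIn S P) := by
          rw [← card_autInducedBy_mul S P]; ring
      _ ≤ _ := Nat.mul_le_mul_right _ (Nat.le_of_dvd Nat.card_pos hprod)
  have := Subgroup.eq_of_le_of_card_ge hK hge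
  exact ⟨hPS, fun β => by rw [this]; exact Iff.rfl⟩

end Cfsg.Agent.RankTwoReal36
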