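import Cfsg.Agent.RankTwoReal36.Cand
import Cfsg.Agent.Fus93.RankTwoOdd.Abstract
import Cfsg.Agent.Fus93.Stabilizer

/-!
# Simple systems on dihedral and semidihedral groups
-/

set_option autoImplicit false
set_option linter.unusedSectionVars false
set_option linter.style.haveILetI false

namespace Cfsg.Agent.RankTwoReal36

open Cfsg Cfsg.Agent.Fusion
open Cfsg.FusionSystem (normalizerIn centralizerIn)

variable {Ω : Type*} [Group Ω]

/-- Assemble a frame from three elements. -/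
def frameOf {P Z : Subgroup Ω} {k : ℕ} (y₀ y₁ y₂ a : Ω) (le : Z ≤ P)
    (m₀ : y₀ ∈ P) (m₁ : y₁ ∈ P) (m₂ : y₂ ∈ P)
    (q₀ : y₀ * y₀ = a) (q₁ : y₁ * y₁ = a) (q₂ : y₂ * y₂ = a) (ha : a ∈ Z)
    (hc : ∀ v ∈ P, ∀ t ∈ Z, v * t = t * v) (n₀ : y₀ ∉ Z) (n₁ : y₁ ∉ Z) (n₂ : y₂ ∉ Z)
    (s₀₁ : y₀⁻¹ * y₁ ∉ Z) (s₀₂ : y₀⁻¹ * y₂ ∉ Z) (s₁₂ : y₁⁻¹ * y₂ ∉ Z)
    (hcov : ∀ v ∈ P, v ∈ Z ∨ y₀⁻¹ * v ∈ Z ∨ y₁⁻¹ * v ∈ Z ∨ y₂⁻¹ * v ∈ Z)
    (hgen : ∀ K : Subgroup Ω, Z ≤ K → y₀ ∈ K → y₁ ∈ K → P ≤ K) (hk : Nat.card {t : Ω // t ∈ Z ∧ t * t = 1} ≤ k)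
    (hf : Finite Z) : Frame P Z k where
  y := ![y₀, y₁, y₂]
  a := a
  le := le
  mem j := by fin_cases j <;> assumption
  sq j := by fin_cases j <;> assumption
  sqMem := ha
  comm j := hc _ (by fin_cases j <;> assumption)
  not_mem j := by fin_cases j <;> assumption
  sep j l q := by
    have r : ∀ u v : Ω, u⁻¹ * v ∈ Z → v⁻¹ * u ∈ Z := fun u v huv => by simpa using Z.inv_mem huv
    fin_cases j <;> fin_cases l <;> first
      | rfl
      | exact absurd q s₀₁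
      | exact absurd q s₀₂
      | exact absurd q s₁₂
      | exact absurd (r _ _ q) s₀₁
      | exact absurd (r _ _ q) s₀₂
      | exact absurd (r _ _ q) s₁₂
  cover v hv := by
    rcases hcov v hv with q | q | q | q
    exacts [Or.inl q, Or.inr ⟨0, q⟩, Or.inr ⟨1, q⟩, Or.inr ⟨2, q⟩]
  gen := hgen _ (fun v hv => Subgroup.subset_closure (Or.inl hv))
    (Subgroup.subset_closure (Or.inr (Or.inl rfl))) (Subgroup.subset_closure (Or.inr (Or.inr rfl)))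
  roots := hk
  rootsFinite := Finite.of_injective (fun t => (⟨t.1, t.2.1⟩ : Z))
    fun u v q => Subtype.ext (congrArg (fun z : Z => (z : Ω)) q)

/-- Coordinates on a dihedral (`e = 0`) or semidihedral (`e = 1`) group. -/
structure IsCyc (S : Subgroup Ω) (n e : ℕ) (c φ : Ω) : Prop where
  cS : c ∈ S
  φS : φ ∈ S
  ord : orderOf c = 2 ^ n
  inv : φ * φ = 1
  conj : φ * c * φ = c ^ (-1 + (e : ℤ) * 2 ^ (n - 1))
  not_mem : φ ∉ Subgroup.zpowers c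
  card : Nat.card S = 2 ^ (n + 1)
  two : 2 ≤ n
  case : e = 0 ∨ (e = 1 ∧ 3 ≤ n)

namespace IsCyc

variable {S : Subgroup Ω} [Finite S] {n e : ℕ} {c φ : Ω} (h : IsCyc S n e c φ)
include h

local notation "rr" => (-1 + (e : ℤ) * 2 ^ (n - 1))

theorem pow_h : (2 : ℤ) ^ n = 2 * 2 ^ (n - 1) := by
  rw [← pow_succ', Nat.sub_add_cancel (by linarith [h.two] : 1 ≤ n)]

theorem h_even : ∃ m : ℤ, (2 : ℤ) ^ (n - 1) = 2 * m ∧ m = 2 ^ (n - 2) :=
  ⟨2 ^ (n - 2), by rw [← pow_succ']; congr 1; have := h.two; omega, rfl⟩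

theorem zeq {i j : ℤ} : c ^ i = c ^ j ↔ (2 : ℤ) ^ n ∣ i - j := by
  rw [← orderOf_dvd_sub_iff_zpow_eq_zpow, h.ord]
  push_cast
  exact Iff.rfl

theorem zone {i : ℤ} : c ^ i = 1 ↔ (2 : ℤ) ^ n ∣ i := by
  rw [← orderOf_dvd_iff_zpow_eq_one, h.ord]
  push_cast
  exact Iff.rfl

theorem φinv : φ⁻¹ = φ := inv_eq_of_mul_eq_one_right h.inv

theorem phi_zpow (i : ℤ) : φ * c ^ i = c ^ (rr * i) * φ := by
  have e1 : φ * c ^ i * φ = c ^ (rr * i) := by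
    rw [zpow_mul, ← h.conj]
    conv_lhs => arg 2; rw [← h.φinv]
    conv_rhs => arg 1; arg 2; rw [← h.φinv]
    exact conj_zpow.symm
  rw [← e1, mul_assoc, h.inv, mul_one]

theorem cc (i j : ℤ) : c ^ i * (c ^ j * φ) = c ^ (i + j) * φ := by rw [← mul_assoc, ← zpow_add]

theorem fc (i j : ℤ) : c ^ i * φ * c ^ j = c ^ (i + rr * j) * φ := by
  rw [mul_assoc, h.phi_zpow, ← mul_assoc, ← zpow_add]

theorem ff (i j : ℤ) : c ^ i * φ * (c ^ j * φ) = c ^ (i + rr * j) := by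
  rw [← mul_assoc, h.fc, mul_assoc, h.inv, mul_one]

theorem sq (i : ℤ) : c ^ i * φ * (c ^ i * φ) = c ^ ((e : ℤ) * 2 ^ (n - 1) * i) := by
  rw [h.ff]; congr 1; ring

theorem finv (i : ℤ) : (c ^ i * φ)⁻¹ = c ^ (-(rr * i)) * φ := by
  refine inv_eq_of_mul_eq_one_right ?_
  have hr : c ^ (rr * rr) = c ^ (1 : ℤ) := by
    have e1 : φ * (φ * c * φ) * φ = c := by
      rw [← mul_assoc φ, ← mul_assoc φ, h.inv, one_mul, mul_assoc, h.inv, mul_one]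
    rw [h.conj, h.phi_zpow, mul_assoc, h.inv, mul_one] at e1
    rw [zpow_one, e1]
  rw [h.ff, show i + rr * -(rr * i) = i + rr * rr * (-i) by ring, zpow_add, zpow_mul c (rr * rr),
    hr, zpow_one, ← zpow_add, add_neg_cancel, zpow_zero]

theorem conj_f (j i : ℤ) : c ^ j * (c ^ i * φ) * (c ^ j)⁻¹ = c ^ (i + j * (1 - rr)) * φ := by
  rw [h.cc, ← zpow_neg, h.fc]; congr 2; ring

theorem cross {i j : ℤ} : c ^ i ≠ c ^ j * φ := fun q => h.not_mem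
  ⟨-j + i, by show c ^ (-j + i) = φ; rw [zpow_add, q, ← mul_assoc, ← zpow_add, neg_add_cancel,
    zpow_zero, one_mul]⟩

theorem mem_S {x : Ω} (hx : x ∈ S) : ∃ i : ℤ, x = c ^ i ∨ x = c ^ i * φ := by
  have hinv : ∀ a ∈ Subgroup.zpowers c, φ * a * φ ∈ Subgroup.zpowers c := by
    rintro a ⟨i, rfl⟩
    show φ * c ^ i * φ ∈ _
    rw [h.phi_zpow, mul_assoc, h.inv, mul_one]
    exact zpow_mem (Subgroup.mem_zpowers c) _
  set D := Fus93.RankTwoOdd.ext2 (Subgroup.zpowers c) φ h.inv hinv with hD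
  have hDS : D ≤ S := by
    rintro y (hy | hy)
    · exact (Subgroup.zpowers_le.mpr h.cS) hy
    · have := S.mul_mem ((Subgroup.zpowers_le.mpr h.cS) hy) h.φS
      rwa [mul_assoc, h.inv, mul_one] at this
  haveI := Fusion.finite_of_le hDS
  have hcard : Nat.card D = Nat.card S := by
    haveI : Finite (Subgroup.zpowers c) := Fusion.finite_of_le (Subgroup.zpowers_le.mpr h.cS)
    rw [h.card, hD]
    have : Nat.card (Fus93.RankTwoOdd.ext2 (Subgroup.zpowers c) φ h.inv hinv) =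
        2 * Nat.card (Subgroup.zpowers c) := by
      let f : Bool × Subgroup.zpowers c → Fus93.RankTwoOdd.ext2 (Subgroup.zpowers c) φ h.inv hinv :=
        fun q => if q.1 then ⟨q.2 * φ, Or.inr (by rw [mul_assoc, h.inv, mul_one]; exact q.2.2)⟩
          else ⟨q.2, Or.inl q.2.2⟩
      have hf : Function.Bijective f := by
        constructor
        · rintro ⟨a, x⟩ ⟨b, y⟩ q
          obtain ⟨i, hi⟩ := x.2
          obtain ⟨j, hj⟩ := y.2
          change c ^ i = (x : Ω) at hi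
          change c ^ j = (y : Ω) at hj
          cases a <;> cases b <;> simp [f] at q
          all_goals have q' := congrArg Subtype.val q
          · exact Prod.ext rfl (Subtype.ext q')
          · exact absurd (hi.trans (q'.trans (by rw [hj]))) h.cross
          · exact absurd (hj.trans (q'.symm.trans (by rw [hi]))) h.cross
          · exact Prod.ext rfl (Subtype.ext (mul_right_cancel q'))
        · rintro ⟨y, hy | hy⟩
          · exact ⟨(false, ⟨y, hy⟩), rfl⟩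
          · exact ⟨(true, ⟨y * φ, hy⟩), Subtype.ext (by simp [f, mul_assoc, h.inv])⟩
      rw [← Nat.card_eq_of_bijective f hf, Nat.card_prod]
      simp
    rw [this, Nat.card_zpowers, h.ord, ← pow_succ']
  have hx' : x ∈ D := (Subgroup.eq_of_le_of_card_ge hDS hcard.ge).ge hx
  rcases hx' with ⟨i, hi⟩ | ⟨i, hi⟩
  · exact ⟨i, Or.inl hi.symm⟩
  · refine ⟨i, Or.inr ?_⟩
    change c ^ i = x * φ at hi
    rw [hi, mul_assoc, h.inv, mul_one]

theorem mem_zpowers_S (i : ℤ) : c ^ i ∈ S ∧ c ^ i * φ ∈ S :=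
  ⟨zpow_mem h.cS i, S.mul_mem (zpow_mem h.cS i) h.φS⟩

/-! ### The two maximal subgroups other than the cyclic one -/

/-- The maximal subgroup containing the `c ^ i * φ` with `i` of the parity of `b`. -/
def half (b : ℤ) : Subgroup Ω where
  carrier := {x | ∃ i : ℤ, (x = c ^ i ∧ 2 ∣ i) ∨ (x = c ^ i * φ ∧ 2 ∣ i - b)}
  one_mem' := ⟨0, Or.inl ⟨(zpow_zero c).symm, dvd_zero 2⟩⟩
  mul_mem' := by
    obtain ⟨m, hm, -⟩ := h.h_even
    rintro x y ⟨i, ⟨rfl, hi⟩ | ⟨rfl, hi⟩⟩ ⟨j, ⟨rfl, hj⟩ | ⟨rfl, hj⟩⟩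
    · exact ⟨i + j, Or.inl ⟨(zpow_add c i j).symm, dvd_add hi hj⟩⟩
    · exact ⟨i + j, Or.inr ⟨h.cc i j, by omega⟩⟩
    · refine ⟨i + rr * j, Or.inr ⟨h.fc i j, ?_⟩⟩
      rw [hm, show i + (-1 + (e : ℤ) * (2 * m)) * j - b = (i - b) + (-j) + 2 * ((e : ℤ) * m * j) by ring]
      exact dvd_add (dvd_add hi hj.neg_right) (dvd_mul_right 2 _)
    · refine ⟨i + rr * j, Or.inl ⟨h.ff i j, ?_⟩⟩
      rw [hm, show i + (-1 + (e : ℤ) * (2 * m)) * j = (i - b) + (-(j - b)) + 2 * ((e : ℤ) * m * j) by ring]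
      exact dvd_add (dvd_add hi hj.neg_right) (dvd_mul_right 2 _)
  inv_mem' := by
    obtain ⟨m, hm, -⟩ := h.h_even
    rintro x ⟨i, ⟨rfl, hi⟩ | ⟨rfl, hi⟩⟩
    · exact ⟨-i, Or.inl ⟨(zpow_neg c i).symm, hi.neg_right⟩⟩
    · refine ⟨-(rr * i), Or.inr ⟨h.finv i, ?_⟩⟩
      rw [hm, show -((-1 + (e : ℤ) * (2 * m)) * i) - b = (i - b) + 2 * (-((e : ℤ) * m * i)) by ring]
      exact dvd_add hi (dvd_mul_right 2 _)

theorem half_le (b : ℤ) : h.half b ≤ S := by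
  rintro x ⟨i, ⟨rfl, -⟩ | ⟨rfl, -⟩⟩
  exacts [(h.mem_zpowers_S i).1, (h.mem_zpowers_S i).2]

theorem half_two (b : ℤ) {s t : Ω} (hs : s ∈ S) (ht : t ∈ S) (hs' : s ∉ h.half b)
    (ht' : t ∉ h.half b) : s * t ∈ h.half b := by
  obtain ⟨m, hm, -⟩ := h.h_even
  obtain ⟨i, rfl | rfl⟩ := h.mem_S hs <;> obtain ⟨j, rfl | rfl⟩ := h.mem_S ht
  all_goals
    have a1 := fun q => hs' ⟨i, q⟩
    have a2 := fun q => ht' ⟨j, q⟩
    simp only [true_and, imp_false, not_or, not_and] at a1 a2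
  · exact ⟨i + j, Or.inl ⟨(zpow_add c i j).symm, by omega⟩⟩
  · exact ⟨i + j, Or.inr ⟨h.cc i j, by omega⟩⟩
  · refine ⟨i + rr * j, Or.inr ⟨h.fc i j, ?_⟩⟩
    rw [hm, show i + (-1 + (e : ℤ) * (2 * m)) * j - b = (i - b - j) + 2 * ((e : ℤ) * m * j) by ring]
    exact dvd_add (by omega) (dvd_mul_right 2 _)
  · refine ⟨i + rr * j, Or.inl ⟨h.ff i j, ?_⟩⟩
    rw [hm, show i + (-1 + (e : ℤ) * (2 * m)) * j = (i - j) + 2 * ((e : ℤ) * m * j) by ring]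
    exact dvd_add (by omega) (dvd_mul_right 2 _)

theorem half_ne (b : ℤ) : h.half b ≠ S := by
  intro q
  obtain ⟨i, ⟨hi, hd⟩ | ⟨hi, -⟩⟩ := q.ge h.cS
  · rw [← zpow_one c, ← zpow_mul, one_mul, h.zeq, h.pow_h] at hi
    have := (dvd_mul_right (2 : ℤ) _).trans hi
    omega
  · exact h.cross (i := 1) (j := i) (by rw [zpow_one]; exact hi)

theorem half_ne_bot (b : ℤ) : h.half b ≠ ⊥ := by
  intro q
  have : c ^ b * φ ∈ h.half b := ⟨b, Or.inr ⟨rfl, by simp⟩⟩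
  rw [q, Subgroup.mem_bot] at this
  exact h.cross (i := 0) (j := b) (by rw [zpow_zero, this])

/-! ### The candidates -/

/-- The subgroup of the `c ^ a`, `c ^ (a + i) * φ` with `q ∣ a`. -/
def cand (q : ℕ) (i : ℤ) (hq : (q : ℤ) ∣ 2 ^ (n - 1)) : Subgroup Ω where
  carrier := {x | ∃ a : ℤ, (q : ℤ) ∣ a ∧ (x = c ^ a ∨ x = c ^ (a + i) * φ)}
  one_mem' := ⟨0, dvd_zero _, Or.inl (zpow_zero c).symm⟩
  mul_mem' := by
    have he : (q : ℤ) ∣ (e : ℤ) * 2 ^ (n - 1) * i := (hq.mul_left _).mul_right _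
    rintro x y ⟨a, ha, rfl | rfl⟩ ⟨b, hb, rfl | rfl⟩
    · exact ⟨a + b, dvd_add ha hb, Or.inl (zpow_add c a b).symm⟩
    · exact ⟨a + b, dvd_add ha hb, Or.inr (by rw [h.cc]; congr 2; ring)⟩
    · exact ⟨a + rr * b, dvd_add ha (hb.mul_left _), Or.inr (by rw [h.fc]; congr 2; ring)⟩
    · refine ⟨a + rr * b + (e : ℤ) * 2 ^ (n - 1) * i, dvd_add (dvd_add ha (hb.mul_left _)) he,
        Or.inl ?_⟩
      rw [h.ff]; congr 1; ring
  inv_mem' := by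
    have he : (q : ℤ) ∣ (e : ℤ) * 2 ^ (n - 1) * i := (hq.mul_left _).mul_right _
    rintro x ⟨a, ha, rfl | rfl⟩
    · exact ⟨-a, ha.neg_right, Or.inl (zpow_neg c a).symm⟩
    · refine ⟨-(rr * a) - (e : ℤ) * 2 ^ (n - 1) * i, dvd_sub (ha.mul_left _).neg_right he, Or.inr ?_⟩
      rw [h.finv]; congr 2; ring

theorem cand_le (q : ℕ) (i : ℤ) (hq : (q : ℤ) ∣ 2 ^ (n - 1)) : h.cand q i hq ≤ S := by
  rintro x ⟨a, -, rfl | rfl⟩
  exacts [(h.mem_zpowers_S a).1, (h.mem_zpowers_S _).2]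

/-- The step of the candidate through `c ^ i * φ`. -/
def step (_h : IsCyc S n e c φ) (i : ℤ) : ℕ :=
  if (2 : ℤ) ∣ (e : ℤ) * i then 2 ^ (n - 1) else 2 ^ (n - 2)

theorem step_dvd (i : ℤ) : ((h.step i : ℕ) : ℤ) ∣ 2 ^ (n - 1) := by
  unfold step; split <;> push_cast <;> exact pow_dvd_pow 2 (by omega)

theorem step_even (i : ℤ) : (2 : ℤ) ∣ (h.step i : ℤ) := by
  have := h.two
  unfold step; split
  · push_cast; exact dvd_pow_self 2 (by omega)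
  · rename_i hi
    push_cast
    refine dvd_pow_self 2 ?_
    rcases h.case with rfl | ⟨-, h3⟩
    · simp at hi
    · omega

/-- The candidate through `c ^ i * φ`. -/
def P (i : ℤ) : Subgroup Ω := h.cand (h.step i) i (h.step_dvd i)

/-- The subgroup fixed by the automizer of the candidate. -/
def Z (_h : IsCyc S n e c φ) (i : ℤ) : Subgroup Ω :=
  if (2 : ℤ) ∣ (e : ℤ) * i then ⊥ else Subgroup.zpowers (c ^ ((2 : ℤ) ^ (n - 1)))

theorem P_le (i : ℤ) : h.P i ≤ S := h.cand_le _ _ _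

theorem P_le_half (i b : ℤ) (hib : 2 ∣ i - b) : h.P i ≤ h.half b := by
  rintro x ⟨a, ha, rfl | rfl⟩
  · exact ⟨a, Or.inl ⟨rfl, (h.step_even i).trans ha⟩⟩
  · exact ⟨a + i, Or.inr ⟨rfl, by have := (h.step_even i).trans ha; omega⟩⟩

theorem P_ne (i : ℤ) : h.P i ≠ S := fun q =>
  h.half_ne i (le_antisymm (h.half_le i) (q.symm.le.trans (h.P_le_half i i (by simp))))

theorem Z_central {i : ℤ} : ∀ s ∈ S, ∀ t ∈ h.Z i, s * t = t * s := by
  intro s hs t ht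
  unfold Z at ht
  split at ht
  · rw [Subgroup.mem_bot.mp ht, mul_one, one_mul]
  · obtain ⟨k, rfl⟩ := Subgroup.mem_zpowers_iff.mp ht
    rw [← zpow_mul]
    obtain ⟨j, rfl | rfl⟩ := h.mem_S hs
    · rw [← zpow_add, ← zpow_add, add_comm]
    · rw [h.fc, h.cc, mul_left_inj, h.zeq]
      obtain ⟨m, hm, -⟩ := h.h_even
      refine ⟨((e : ℤ) * m - 1) * k, ?_⟩
      rw [h.pow_h, hm]; ring

theorem Z_cyclic (i : ℤ) : IsCyclic (h.Z i) := by
  by_cases hi : (2 : ℤ) ∣ (e : ℤ) * i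
  · rw [show h.Z i = ⊥ by simp [Z, hi]]; infer_instance
  · rw [show h.Z i = Subgroup.zpowers (c ^ ((2 : ℤ) ^ (n - 1))) by simp [Z, hi]]; infer_instance

theorem gen_zero : c ^ ((2 : ℤ) ^ (n - 1)) ≠ 1 := by
  rw [Ne, h.zone, h.pow_h]
  intro q
  have := Int.le_of_dvd (by positivity) q
  have : (0 : ℤ) < 2 ^ (n - 1) := by positivity
  linarith

/-- Every square in a candidate lies in its fixed subgroup. -/
theorem sq_mem {i : ℤ} (hi : ¬ (2 : ℤ) ∣ (e : ℤ) * i) {x : Ω} (hx : x ∈ h.P i) :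
    x * x ∈ h.Z i := by
  have hst : (h.step i : ℤ) = 2 ^ (n - 2) := by simp [step, hi]
  obtain ⟨m, hm, hm2⟩ := h.h_even
  simp only [Z, hi, if_false]
  obtain ⟨a, ha, rfl | rfl⟩ := hx
  · rw [hst] at ha
    obtain ⟨b, rfl⟩ := ha
    exact ⟨b, by show (c ^ _) ^ b = _; rw [← zpow_mul, ← zpow_add, hm, ← hm2]; congr 1; ring⟩
  · exact ⟨(e : ℤ) * (a + i), by show (c ^ _) ^ _ = _; rw [h.sq, ← zpow_mul]; congr 1; ring⟩

theorem Z_inv (i : ℤ) (α : MulAut (h.P i)) (x : h.P i) (hx : (x : Ω) ∈ h.Z i) :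
    ((α x : h.P i) : Ω) ∈ h.Z i := by
  by_cases hi : (2 : ℤ) ∣ (e : ℤ) * i
  · simp only [Z, hi, if_true, Subgroup.mem_bot] at hx ⊢
    rw [show x = 1 from Subtype.ext hx, map_one]; rfl
  · have hst : (h.step i : ℤ) = 2 ^ (n - 2) := by simp [step, hi]
    obtain ⟨m, hm, hm2⟩ := h.h_even
    simp only [Z, hi, if_false] at hx
    obtain ⟨k, hk⟩ := Subgroup.mem_zpowers_iff.mp hx
    have hy : c ^ ((2 : ℤ) ^ (n - 2) * k) ∈ h.P i :=
      ⟨_, by rw [hst]; exact dvd_mul_right _ _, Or.inl rfl⟩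
    have : x = ⟨_, hy⟩ * ⟨_, hy⟩ := Subtype.ext (by
      rw [← hk, Subgroup.coe_mul, ← zpow_mul, ← zpow_add, hm, ← hm2]; congr 1; ring)
    rw [this, map_mul, Subgroup.coe_mul]
    exact h.sq_mem hi (α _).2

theorem odd_rr : Odd rr := by
  obtain ⟨m, hm, -⟩ := h.h_even
  exact ⟨(e : ℤ) * m - 1, by rw [hm]; ring⟩

theorem odd_mul_not_one {b : ℤ} (hb : Odd b) : c ^ ((2 : ℤ) ^ (n - 1) * b) ≠ 1 := by
  rw [Ne, h.zone, h.pow_h, mul_comm (2 : ℤ)]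
  intro q
  have := (mul_dvd_mul_iff_left (pow_ne_zero _ (two_ne_zero' ℤ))).mp q
  obtain ⟨j, rfl⟩ := hb
  omega

/-- The frame of a candidate of the first kind. -/
noncomputable def frameV {i : ℤ} (hi : (2 : ℤ) ∣ (e : ℤ) * i) : Frame (h.P i) (h.Z i) 1 := by
  have hst : (h.step i : ℤ) = 2 ^ (n - 1) := by simp [step, hi]
  have hZ : h.Z i = ⊥ := by simp [Z, hi]
  have hN := h.pow_h
  have hP : ∀ b : ℤ, c ^ ((2 : ℤ) ^ (n - 1) * b) ∈ h.P i ∧ c ^ ((2 : ℤ) ^ (n - 1) * b + i) * φ ∈ h.P i :=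
    fun b => ⟨⟨_, by rw [hst]; exact dvd_mul_right _ _, Or.inl rfl⟩,
      ⟨_, by rw [hst]; exact dvd_mul_right _ _, Or.inr rfl⟩⟩
  have hsq : ∀ b : ℤ, c ^ ((2 : ℤ) ^ (n - 1) * b + i) * φ * (c ^ ((2 : ℤ) ^ (n - 1) * b + i) * φ) = 1 := by
    intro b
    obtain ⟨j, hj⟩ := hi
    obtain ⟨m, hm, -⟩ := h.h_even
    rw [h.sq, h.zone, hN]
    refine ⟨(e : ℤ) * m * b + j, ?_⟩
    rw [hm, mul_add, show (e : ℤ) * (2 * m) * i = 2 * m * ((e : ℤ) * i) by ring, hj]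
    ring
  refine frameOf (c ^ ((2 : ℤ) ^ (n - 1) * 1)) (c ^ ((2 : ℤ) ^ (n - 1) * 0 + i) * φ)
    (c ^ ((2 : ℤ) ^ (n - 1) * 1 + i) * φ) 1 (by rw [hZ]; exact bot_le) (hP 1).1 (hP 0).2 (hP 1).2
    ?_ (hsq 0) (hsq 1) (one_mem _) (fun v hv t ht => h.Z_central v (h.P_le i hv) t ht)
    ?_ ?_ ?_ ?_ ?_ ?_ ?_ ?_ ?_ ?_
  · rw [← zpow_add, h.zone, hN]; exact ⟨1, by ring⟩
  · rw [hZ, Subgroup.mem_bot]; exact h.odd_mul_not_one odd_one
  · rw [hZ, Subgroup.mem_bot]; exact fun q => h.cross (i := 0) ((zpow_zero c).trans q.symm)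
  · rw [hZ, Subgroup.mem_bot]; exact fun q => h.cross (i := 0) ((zpow_zero c).trans q.symm)
  · rw [hZ, Subgroup.mem_bot, inv_mul_eq_one]; exact h.cross
  · rw [hZ, Subgroup.mem_bot, inv_mul_eq_one]; exact h.cross
  · rw [hZ, Subgroup.mem_bot, inv_mul_eq_one, mul_left_inj, mul_zero, zero_add, zpow_add]
    exact fun q => h.odd_mul_not_one odd_one (mul_eq_right.mp q.symm)
  · intro v hv
    rw [hZ]
    simp only [Subgroup.mem_bot, inv_mul_eq_one]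
    obtain ⟨a, ha, hv⟩ := hv
    rw [hst] at ha
    obtain ⟨b, rfl⟩ := ha
    rcases Int.even_or_odd' b with ⟨d, rfl | rfl⟩
    · have e1 : ∀ i', c ^ ((2 : ℤ) ^ (n - 1) * (2 * d) + i') = c ^ i' := fun i' => by
        rw [h.zeq, hN]; exact ⟨d, by ring⟩
      rcases hv with rfl | rfl
      · refine Or.inl ?_
        have := e1 0
        rwa [add_zero, zpow_zero] at this
      · exact Or.inr (Or.inr (Or.inl (by rw [e1, mul_zero, zero_add])))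
    · have e1 : ∀ i', c ^ ((2 : ℤ) ^ (n - 1) * (2 * d + 1) + i') = c ^ ((2 : ℤ) ^ (n - 1) * 1 + i') :=
        fun i' => by rw [h.zeq, hN]; exact ⟨d, by ring⟩
      rcases hv with rfl | rfl
      · refine Or.inr (Or.inl ?_)
        have := e1 0
        rw [add_zero, add_zero] at this
        exact this.symm
      · exact Or.inr (Or.inr (Or.inr (by rw [e1])))
  · intro K _ h0 h1 v hv
    obtain ⟨a, ha, hv⟩ := hv
    rw [hst] at ha
    obtain ⟨b, rfl⟩ := ha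
    rw [mul_one] at h0
    rw [mul_zero, zero_add] at h1
    rw [zpow_mul, zpow_add, zpow_mul, mul_assoc] at hv
    rcases hv with rfl | rfl
    · exact zpow_mem h0 b
    · exact mul_mem (zpow_mem h0 b) h1
  · rw [hZ]
    refine le_of_eq (Nat.card_eq_one_iff_unique.mpr ⟨⟨fun u v => Subtype.ext ?_⟩,
      ⟨⟨1, one_mem _, one_mul 1⟩⟩⟩)
    exact (Subgroup.mem_bot.mp u.2.1).trans (Subgroup.mem_bot.mp v.2.1).symm
  · rw [hZ]; infer_instance

/-- The frame of a candidate of the second kind. -/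
noncomputable def frameQ {i : ℤ} (hi : ¬ (2 : ℤ) ∣ (e : ℤ) * i) : Frame (h.P i) (h.Z i) 2 := by
  have hst : (h.step i : ℤ) = 2 ^ (n - 2) := by simp [step, hi]
  have hZ : h.Z i = Subgroup.zpowers (c ^ ((2 : ℤ) ^ (n - 1))) := by simp [Z, hi]
  have he : e = 1 ∧ 3 ≤ n := by
    rcases h.case with q | q
    · exfalso; apply hi; rw [q]; simp
    · exact q
  have hodd : Odd i := by
    rcases Int.even_or_odd i with ⟨j, hj⟩ | q
    · exfalso; apply hi; rw [he.1, hj]; push_cast; exact ⟨j, by ring⟩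
    · exact q
  obtain ⟨hm2, hm⟩ : ((2 : ℤ) ^ (n - 2) = 2 * 2 ^ (n - 3)) ∧
      ((2 : ℤ) ^ (n - 1) = 2 * 2 ^ (n - 2)) := by
    constructor <;> rw [← pow_succ'] <;> congr 1 <;> omega
  have hN := h.pow_h
  have hP : ∀ b : ℤ, c ^ ((2 : ℤ) ^ (n - 2) * b) ∈ h.P i ∧ c ^ ((2 : ℤ) ^ (n - 2) * b + i) * φ ∈ h.P i :=
    fun b => ⟨⟨_, by rw [hst]; exact dvd_mul_right _ _, Or.inl rfl⟩,
      ⟨_, by rw [hst]; exact dvd_mul_right _ _, Or.inr rfl⟩⟩
  have hsq : ∀ b : ℤ, c ^ ((2 : ℤ) ^ (n - 2) * b + i) * φ * (c ^ ((2 : ℤ) ^ (n - 2) * b + i) * φ) =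
      c ^ ((2 : ℤ) ^ (n - 1)) := by
    intro b
    obtain ⟨j, rfl⟩ := hodd
    rw [h.sq, h.zeq, hN, he.1]
    refine ⟨2 ^ (n - 3) * b + j, ?_⟩
    rw [hm2]; push_cast; ring
  have hzmem : ∀ k : ℤ, c ^ ((2 : ℤ) ^ (n - 1) * k) ∈ h.Z i := fun k => by
    rw [hZ, zpow_mul]; exact zpow_mem (Subgroup.mem_zpowers _) k
  have hnot : ∀ b : ℤ, Odd b → c ^ ((2 : ℤ) ^ (n - 2) * b) ∉ h.Z i := by
    intro b hb q
    rw [hZ] at q
    obtain ⟨k, hk⟩ := Subgroup.mem_zpowers_iff.mp q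
    rw [← zpow_mul, h.zeq, hN, hm] at hk
    have h2 : (2 : ℤ) ^ (n - 2) * 4 ∣ 2 ^ (n - 2) * (2 * k - b) := by
      rw [show (2 : ℤ) ^ (n - 2) * 4 = 2 * (2 * 2 ^ (n - 2)) by ring,
        show (2 : ℤ) ^ (n - 2) * (2 * k - b) = 2 * 2 ^ (n - 2) * k - 2 ^ (n - 2) * b by ring]
      exact hk
    have h4 := (mul_dvd_mul_iff_left (pow_ne_zero _ (two_ne_zero' ℤ))).mp h2
    obtain ⟨j, rfl⟩ := hb
    omega
  have hout : ∀ a : ℤ, c ^ a * φ ∉ h.Z i := fun a q => by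
    rw [hZ] at q
    obtain ⟨k, hk⟩ := Subgroup.mem_zpowers_iff.mp q
    rw [← zpow_mul] at hk
    exact h.cross hk
  have hfin : Finite (Subgroup.zpowers (c ^ ((2 : ℤ) ^ (n - 1)))) :=
    Fusion.finite_of_le (Subgroup.zpowers_le.mpr (h.mem_zpowers_S _).1)
  refine frameOf (c ^ ((2 : ℤ) ^ (n - 2) * 1)) (c ^ ((2 : ℤ) ^ (n - 2) * 0 + i) * φ)
    (c ^ ((2 : ℤ) ^ (n - 2) * 1 + i) * φ) (c ^ ((2 : ℤ) ^ (n - 1))) ?_ (hP 1).1 (hP 0).2 (hP 1).2
    ?_ (hsq 0) (hsq 1) ?_ (fun v hv t ht => h.Z_central v (h.P_le i hv) t ht)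
    (hnot 1 odd_one) (hout _) (hout _) ?_ ?_ ?_ ?_ ?_ ?_ (hZ ▸ hfin)
  · rw [hZ, Subgroup.zpowers_le, hm, mul_comm]
    exact (hP 2).1
  · rw [← zpow_add, hm]; congr 1; ring
  · rw [hZ]; exact Subgroup.mem_zpowers _
  · rw [← zpow_neg, h.cc]; exact hout _
  · rw [← zpow_neg, h.cc]; exact hout _
  · rw [h.finv, h.ff]
    convert hnot rr h.odd_rr using 2
    ring_nf
  · intro v hv
    obtain ⟨a, ha, hv⟩ := hv
    rw [hst] at ha
    obtain ⟨b, rfl⟩ := ha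
    rcases Int.even_or_odd' b with ⟨d, rfl | rfl⟩ <;> rcases hv with rfl | rfl
    · refine Or.inl ?_
      rw [show (2 : ℤ) ^ (n - 2) * (2 * d) = 2 ^ (n - 1) * d by rw [hm]; ring]
      exact hzmem d
    · refine Or.inr (Or.inr (Or.inl ?_))
      rw [h.finv, h.ff]
      convert hzmem (rr * d) using 2
      rw [hm]; ring_nf
    · refine Or.inr (Or.inl ?_)
      rw [← zpow_neg, ← zpow_add]
      convert hzmem d using 2
      rw [hm]; ring_nf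
    · refine Or.inr (Or.inr (Or.inr ?_))
      rw [h.finv, h.ff]
      convert hzmem (rr * d) using 2
      rw [hm]; ring_nf
  · intro K _ h0 h1 v hv
    obtain ⟨a, ha, hv⟩ := hv
    rw [hst] at ha
    obtain ⟨b, rfl⟩ := ha
    rw [mul_one] at h0
    rw [mul_zero, zero_add] at h1
    rw [zpow_mul, zpow_add, zpow_mul, mul_assoc] at hv
    rcases hv with rfl | rfl
    · exact zpow_mem h0 b
    · exact mul_mem (zpow_mem h0 b) h1
  · rw [hZ]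
    refine (Nat.card_le_card_of_injective
      (fun t : {t : Ω // t ∈ Subgroup.zpowers (c ^ ((2 : ℤ) ^ (n - 1))) ∧ t * t = 1} =>
        (⟨t.1, t.2.1⟩ : Subgroup.zpowers (c ^ ((2 : ℤ) ^ (n - 1))))) fun u v q =>
        Subtype.ext (congrArg (fun z : Subgroup.zpowers (c ^ ((2 : ℤ) ^ (n - 1))) => (z : Ω)) q)).trans ?_
    rw [Nat.card_zpowers]
    refine orderOf_le_of_pow_eq_one two_pos ?_
    rw [pow_two, ← zpow_add, h.zone, hN, two_mul]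

end IsCyc

end Cfsg.Agent.RankTwoReal36
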