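import Cfsg.Agent.RankTwoReal36.Cyc

/-!
# The simple system on a dihedral or semidihedral group is unique
-/

set_option autoImplicit false
set_option linter.unusedSectionVars false
set_option linter.style.haveILetI false

namespace Cfsg.Agent.RankTwoReal36

open Cfsg Cfsg.Agent.Fusion
open Cfsg.FusionSystem (normalizerIn centralizerIn)

variable {Ω : Type*} [Group Ω]

namespace IsCyc

variable {S : Subgroup Ω} [Finite S] {n e : ℕ} {c φ : Ω} (h : IsCyc S n e c φ)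
include h

local notation "rr" => (-1 + (e : ℤ) * 2 ^ (n - 1))

theorem isPGroup : IsPGroup 2 S := IsPGroup.of_card h.card

/-- Subgroups with an automorphism of odd order are candidates. -/
theorem classify {P : Subgroup Ω} (hP : P ≤ S) {α : MulAut P} (hα : α ≠ 1)
    (hodd : Odd (orderOf α)) : ∃ i : ℤ, P = h.P i := by
  classical
  haveI : Fact (Nat.Prime 2) := ⟨Nat.prime_two⟩
  haveI := Fusion.finite_of_le hP
  have hPp : IsPGroup 2 P := h.isPGroup.of_injective _ (Subgroup.inclusion_injective hP)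
  haveI : Finite (Subgroup.zpowers c) := Fusion.finite_of_le (Subgroup.zpowers_le.mpr h.cS)
  by_cases hPC : P ≤ Subgroup.zpowers c
  · haveI : IsCyclic P := Subgroup.isCyclic_of_le hPC
    exact absurd (eq_one_of_cyclic hPp α hodd) hα
  obtain ⟨x, hxP, hxC⟩ := SetLike.not_le_iff_exists.mp hPC
  obtain ⟨i, rfl | rfl⟩ := h.mem_S (hP hxP)
  · exact absurd (zpow_mem (Subgroup.mem_zpowers c) i) hxC
  have hex : ∃ m : ℕ, 0 < m ∧ c ^ (m : ℤ) ∈ P :=
    ⟨2 ^ n, Nat.two_pow_pos n, by rw [h.zone.mpr (by push_cast; exact dvd_rfl)]; exact one_mem _⟩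
  obtain ⟨g, ⟨hg0, hgP⟩, hmin⟩ : ∃ g : ℕ, (0 < g ∧ c ^ (g : ℤ) ∈ P) ∧ ∀ m : ℕ, m < g → ¬ (0 < m ∧ c ^ (m : ℤ) ∈ P) :=
    ⟨Nat.find hex, Nat.find_spec hex, fun m hm => Nat.find_min hex hm⟩
  have hdvd : ∀ a : ℤ, c ^ a ∈ P → (g : ℤ) ∣ a := by
    intro a ha
    by_contra hnd
    have hg' : (0 : ℤ) < g := by exact_mod_cast hg0
    have h0 := Int.emod_nonneg a hg'.ne'
    have h1 := Int.emod_lt_of_pos a hg'
    have h2 : a % g ≠ 0 := fun q => hnd (Int.dvd_of_emod_eq_zero q)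
    refine hmin (a % g).toNat (by omega) ⟨by omega, ?_⟩
    rw [Int.toNat_of_nonneg h0, Int.emod_def, zpow_sub, zpow_mul]
    exact P.mul_mem ha (P.inv_mem (zpow_mem hgP _))
  obtain ⟨j, hjn, rfl⟩ : ∃ j ≤ n, g = 2 ^ j := (Nat.dvd_prime_pow Nat.prime_two).mp
    (Int.natCast_dvd_natCast.mp (hdvd ((2 ^ n : ℕ) : ℤ)
      (by rw [h.zone.mpr (by push_cast; exact dvd_rfl)]; exact one_mem _)))
  push_cast at hgP hdvd
  have hpow : ∀ a : ℤ, (2 : ℤ) ^ j ∣ a → c ^ a ∈ P := by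
    rintro a ⟨b, rfl⟩
    rw [zpow_mul]; exact zpow_mem hgP b
  have hmem : ∀ v, v ∈ P ↔ ∃ a : ℤ, (2 : ℤ) ^ j ∣ a ∧ (v = c ^ a ∨ v = c ^ (a + i) * φ) := by
    intro v
    constructor
    · intro hv
      obtain ⟨k, rfl | rfl⟩ := h.mem_S (hP hv)
      · exact ⟨k, hdvd k hv, Or.inl rfl⟩
      · refine ⟨k - i, hdvd _ ?_, Or.inr (by rw [sub_add_cancel])⟩
        have h1 := P.mul_mem hv (P.inv_mem hxP)
        rwa [mul_inv_rev, ← mul_assoc, mul_assoc (c ^ k) φ φ⁻¹, mul_inv_cancel, mul_one,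
          ← zpow_neg, ← zpow_add, ← sub_eq_add_neg] at h1
    · rintro ⟨a, ha, rfl | rfl⟩
      · exact hpow a ha
      · rw [zpow_add, mul_assoc]; exact P.mul_mem (hpow a ha) hxP
  have hcand : (h.step i : ℤ) = 2 ^ j → P = h.P i := fun q => by
    ext v
    rw [hmem, ← q]
    exact Iff.rfl
  have hcyc : (∀ a : ℤ, (2 : ℤ) ^ j ∣ a → c ^ a ∈ Subgroup.zpowers (c ^ i * φ)) → False := by
    intro hall
    have hle : P = Subgroup.zpowers (c ^ i * φ) := by
      refine le_antisymm (fun v hv => ?_) (Subgroup.zpowers_le.mpr hxP)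
      obtain ⟨a, ha, rfl | rfl⟩ := (hmem v).mp hv
      · exact hall a ha
      · rw [zpow_add, mul_assoc]
        exact mul_mem (hall a ha) (Subgroup.mem_zpowers _)
    haveI : IsCyclic P := hle ▸ inferInstance
    exact hα (eq_one_of_cyclic hPp α hodd)
  have hN := h.pow_h
  have htwo := h.two
  rcases eq_or_lt_of_le hjn with rfl | hlt
  · exact (hcyc fun a ha => by rw [h.zone.mpr ha]; exact one_mem _).elim
  by_cases hj1 : j = n - 1
  · subst hj1
    by_cases hi : (2 : ℤ) ∣ (e : ℤ) * i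
    · exact ⟨i, hcand (by simp [step, hi])⟩
    · refine (hcyc ?_).elim
      rintro a ⟨b, rfl⟩
      obtain ⟨d, hd⟩ : ∃ d, (e : ℤ) * i = 2 * d + 1 := ⟨(e : ℤ) * i / 2, by omega⟩
      refine ⟨2 * b, ?_⟩
      show (c ^ i * φ) ^ (2 * b) = _
      rw [zpow_mul, zpow_two, h.sq, ← zpow_mul, h.zeq, hN]
      exact ⟨d * b, by rw [mul_right_comm _ _ i, hd]; ring⟩
  by_cases hj2 : j = n - 2 ∧ ¬ (2 : ℤ) ∣ (e : ℤ) * i
  · exact ⟨i, hcand (by simp [step, hj2.1, hj2.2])⟩
  exfalso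
  -- a large cyclic part is preserved
  obtain ⟨m, hm, hmout⟩ : ∃ m : ℕ, ¬ (2 : ℤ) ^ n ∣ 2 ^ j * m ∧
      ∀ a : ℤ, (2 : ℤ) ^ j ∣ a → (c ^ (a + i) * φ) ^ m = 1 := by
    by_cases hjs : j + 3 ≤ n
    · refine ⟨4, ?_, fun a _ => ?_⟩
      · rw [show (2 : ℤ) ^ j * ((4 : ℕ) : ℤ) = 2 ^ (j + 2) by push_cast; ring]
        intro q
        have := Int.le_of_dvd (by positivity) q
        have : (2 : ℤ) ^ (j + 2) < 2 ^ n := pow_lt_pow_right₀ (by norm_num) (by omega)
        omega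
      · rw [show (4 : ℕ) = 2 * 2 from rfl, pow_mul, pow_two, pow_two, h.sq, ← zpow_add, h.zone, hN]
        exact ⟨(e : ℤ) * (a + i), by ring⟩
    · have hjeq : j = n - 2 := by omega
      subst hjeq
      have hi : (2 : ℤ) ∣ (e : ℤ) * i := by
        by_contra q; exact hj2 ⟨rfl, q⟩
      refine ⟨2, ?_, fun a ha => ?_⟩
      · rw [show (2 : ℤ) ^ (n - 2) * ((2 : ℕ) : ℤ) = 2 ^ (n - 2 + 1) by push_cast; ring]
        intro q
        have := Int.le_of_dvd (by positivity) q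
        have : (2 : ℤ) ^ (n - 2 + 1) < 2 ^ n := pow_lt_pow_right₀ (by norm_num) (by omega)
        omega
      · rw [pow_two, h.sq, h.zone, hN]
        have hae : (2 : ℤ) ∣ (e : ℤ) * a := by
          rcases h.case with q | ⟨-, q⟩
          · rw [q]; simp
          · exact ((dvd_pow_self 2 (by omega : n - 2 ≠ 0)).trans ha).mul_left _
        obtain ⟨d, hd⟩ := dvd_add hae hi
        exact ⟨d, by rw [show (e : ℤ) * 2 ^ (n - 1) * (a + i) = 2 ^ (n - 1) * ((e : ℤ) * a + (e : ℤ) * i) by ring, hd]; ring⟩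
  set A := (Subgroup.zpowers c).subgroupOf P with hAdef
  let a₀ : P := ⟨c ^ ((2 : ℤ) ^ j), hgP⟩
  have ha₀ : α a₀ ∈ A := by
    obtain ⟨a, ha, q | q⟩ := (hmem _).mp (α a₀).2
    · exact Subgroup.mem_subgroupOf.mpr (q ▸ zpow_mem (Subgroup.mem_zpowers c) a)
    · exfalso
      refine hm (h.zone.mp ?_)
      have h1 : α a₀ ^ m = 1 := Subtype.ext (by rw [Subgroup.coe_pow, q, hmout a ha]; rfl)
      rw [← map_pow] at h1
      have h2 := congrArg Subtype.val (α.injective (h1.trans (map_one α).symm))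
      rw [zpow_mul, zpow_natCast]
      exact h2
  have hAinv : ∀ v ∈ A, α v ∈ A := by
    intro v hv
    obtain ⟨b, hb⟩ := Subgroup.mem_subgroupOf.mp hv
    obtain ⟨d, hd⟩ := hdvd b (show c ^ b ∈ P from (show c ^ b = v from hb) ▸ v.2)
    have : v = a₀ ^ d := Subtype.ext (by
      rw [Subgroup.coe_zpow]
      show (v : Ω) = (c ^ _) ^ d
      rw [← zpow_mul, ← hd]; exact hb.symm)
    rw [this, map_zpow]
    exact zpow_mem ha₀ d
  obtain ⟨δ, hδ, hδd⟩ := Fus93.exists_restrict α A hAinv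
  haveI : IsCyclic A := by
    refine isCyclic_of_injective
      ({ toFun := fun v => (⟨(v : P), v.2⟩ : Subgroup.zpowers c)
         map_one' := rfl
         map_mul' := fun _ _ => rfl } : A →* Subgroup.zpowers c) fun u v q => ?_
    exact Subtype.ext (Subtype.ext (congrArg (fun z : Subgroup.zpowers c => (z : Ω)) q))
  have hδ1 := eq_one_of_cyclic (hPp.to_subgroup A) δ (hodd.of_dvd_nat hδd)
  have hfix : ∀ v ∈ A, α v = v := fun v hv => by
    have := hδ ⟨v, hv⟩
    rw [hδ1] at this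
    exact this.symm
  have hprod : ∀ u v : P, u ∉ A → v ∉ A → u⁻¹ * v ∈ A := by
    intro u v hu hv
    have key : ∀ w : P, w ∉ A → ∃ a : ℤ, (w : Ω) = c ^ a * φ := fun w hw => by
      obtain ⟨a, -, q | q⟩ := (hmem _).mp w.2
      · exact absurd (Subgroup.mem_subgroupOf.mpr (q ▸ zpow_mem (Subgroup.mem_zpowers c) a)) hw
      · exact ⟨_, q⟩
    obtain ⟨a, ha⟩ := key u hu
    obtain ⟨b, hb⟩ := key v hv
    refine Subgroup.mem_subgroupOf.mpr ?_
    rw [Subgroup.coe_mul, Subgroup.coe_inv, ha, hb, h.finv, h.ff]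
    exact zpow_mem (Subgroup.mem_zpowers c) _
  refine hα (MulEquiv.ext fun v => ?_)
  by_cases hv : v ∈ A
  · exact hfix v hv
  refine Fus93.eq_self_of_fixed hPp (Nat.coprime_two_right.mpr hodd) v (hfix _ (hprod v (α v) hv fun q => ?_))
  have := α.injective (hfix _ q)
  rw [this] at q
  exact hv q

theorem autGroup_self (F : FusionSystem S) (hF : F.IsSaturated 2) :
    F.autGroup S ≤ Cfsg.Inn S :=
  autGroup_self_le h.isPGroup hF fun α hα => by
    by_contra hne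
    obtain ⟨i, hi⟩ := h.classify le_rfl hne hα
    exact h.P_ne i hi.symm

theorem half_normal (b : ℤ) : ∀ g ∈ S, ∀ x ∈ h.half b, g * x * g⁻¹ ∈ h.half b := by
  intro g hg x hx
  by_cases hgM : g ∈ h.half b
  · exact mul_mem (mul_mem hgM hx) (inv_mem hgM)
  refine h.half_two b (S.mul_mem hg (h.half_le b hx)) (S.inv_mem hg) (fun q => hgM ?_) (fun q => hgM ?_)
  · simpa using mul_mem q (inv_mem hx)
  · simpa using inv_mem q

theorem half_comm (b : ℤ) : ∀ g ∈ S, ∀ x ∈ S, x⁻¹ * (g * x * g⁻¹) ∈ h.half b := by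
  intro g hg x hx
  by_cases hxM : x ∈ h.half b
  · exact mul_mem (inv_mem hxM) (h.half_normal b g hg x hxM)
  refine h.half_two b (S.inv_mem hx) (S.mul_mem (S.mul_mem hg hx) (S.inv_mem hg))
    (fun q => hxM (by simpa using inv_mem q)) fun q => hxM ?_
  have := h.half_normal b g⁻¹ (S.inv_mem hg) _ q
  simpa [mul_assoc] using this

theorem has_normal : ∃ M : Subgroup Ω, M ≤ S ∧ (M.subgroupOf S).Normal ∧ M ≠ S ∧ M ≠ ⊥ :=
  ⟨h.half 0, h.half_le 0, ⟨fun x hx g => h.half_normal 0 g g.2 x hx⟩, h.half_ne 0, h.half_ne_bot 0⟩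

theorem centralizer_small {F : FusionSystem S} {i : ℤ} (hc : F.IsCentric (h.P i))
    (hi : ¬ (2 : ℤ) ∣ (e : ℤ) * i) :
    Nat.card (centralizerIn S (h.P i)) * 2 ^ 2 ≤ Nat.card (h.P i) := by
  classical
  have hst : (h.step i : ℤ) = 2 ^ (n - 2) := by simp [step, hi]
  haveI := Fusion.finite_of_le (h.P_le i)
  have htwo := h.two
  obtain ⟨m, hm, hm2⟩ := h.h_even
  subst hm2
  have hN := h.pow_h
  set y := c ^ ((2 : ℤ) ^ (n - 2)) with hy
  have hyP : y ∈ h.P i := ⟨_, by rw [hst], Or.inl rfl⟩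
  have hxP : c ^ i * φ ∈ h.P i := ⟨0, dvd_zero _, Or.inr (by rw [zero_add])⟩
  have hy2 : y ^ 2 ≠ 1 := by
    rw [pow_two, hy, ← zpow_add, Ne, h.zone, hN, hm]
    intro q
    have := Int.le_of_dvd (by positivity) q
    have : (0 : ℤ) < 2 ^ (n - 2) := by positivity
    linarith
  have hy4 : orderOf y = 4 := by
    haveI : Fact (Nat.Prime 2) := ⟨Nat.prime_two⟩
    have := orderOf_eq_prime_pow (p := 2) (n := 1) (x := y) (by simpa using hy2) (by
      rw [show 2 ^ (1 + 1) = 2 * 2 from rfl, pow_mul, pow_two, pow_two, hy, ← zpow_add, ← zpow_add, h.zone, hN, hm]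
      exact ⟨1, by ring⟩)
    simpa using this
  have h8 : 8 ≤ Nat.card (h.P i) := by
    have hle : Subgroup.zpowers y ≤ h.P i := Subgroup.zpowers_le.mpr hyP
    have hd := Subgroup.card_dvd_of_le hle
    have hne : Nat.card (Subgroup.zpowers y) ≠ Nat.card (h.P i) := fun q => by
      have := (Subgroup.eq_of_le_of_card_ge hle q.ge).ge hxP
      obtain ⟨k, hk⟩ := this
      change (c ^ _) ^ k = _ at hk
      rw [← zpow_mul] at hk
      exact h.cross hk
    have hpos : 0 < Nat.card (h.P i) := Nat.card_pos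
    rw [Nat.card_zpowers, hy4] at hd hne
    omega
  have hle : centralizerIn S (h.P i) ≤ h.Z i := by
    intro v hv
    have hvP : v ∈ h.P i := hc.2 _ (isIso_id (h.P_le i)).isConj hv
    have hvy := Subgroup.mem_centralizer_iff.mp hv.2 y hyP
    have hvx := Subgroup.mem_centralizer_iff.mp hv.2 _ hxP
    obtain ⟨a, ha, rfl | rfl⟩ := hvP
    · rw [hst] at ha
      obtain ⟨b, rfl⟩ := ha
      rw [h.fc, h.cc, mul_left_inj, h.zeq, hN, hm] at hvx
      have h2 : (2 : ℤ) ^ (n - 2) * 4 ∣ 2 ^ (n - 2) * (2 * (-b + (e : ℤ) * 2 ^ (n - 2) * b)) := by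
        rw [show (2 : ℤ) ^ (n - 2) * 4 = 2 * (2 * 2 ^ (n - 2)) by ring]
        convert hvx using 1
        ring
      have h4 := (mul_dvd_mul_iff_left (pow_ne_zero _ (two_ne_zero' ℤ))).mp h2
      have he : e = 1 ∧ 3 ≤ n := by
        rcases h.case with q | q
        · exfalso; apply hi; rw [q]; simp
        · exact q
      obtain ⟨w, hw⟩ : (2 : ℤ) ∣ (e : ℤ) * 2 ^ (n - 2) * b :=
        ((dvd_pow_self 2 (by omega : n - 2 ≠ 0)).mul_left _).mul_right _
      rw [hw] at h4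
      obtain ⟨d, rfl⟩ : (2 : ℤ) ∣ b := by omega
      simp only [Z, hi, if_false]
      refine ⟨d, ?_⟩
      show (c ^ _) ^ d = _
      rw [← zpow_mul, hm]; congr 1; ring
    · exfalso
      rw [hy, h.cc, h.fc, mul_left_inj, h.zeq, hN, hm] at hvy
      have h2 : (2 : ℤ) ^ (n - 2) * 4 ∣ 2 ^ (n - 2) * (2 * (1 - (e : ℤ) * 2 ^ (n - 2))) := by
        rw [show (2 : ℤ) ^ (n - 2) * 4 = 2 * (2 * 2 ^ (n - 2)) by ring]
        convert hvy using 1
        ring
      have h4 := (mul_dvd_mul_iff_left (pow_ne_zero _ (two_ne_zero' ℤ))).mp h2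
      have he : e = 1 ∧ 3 ≤ n := by
        rcases h.case with q | q
        · exfalso; apply hi; rw [q]; simp
        · exact q
      obtain ⟨w, hw⟩ : (2 : ℤ) ∣ (e : ℤ) * 2 ^ (n - 2) :=
        (dvd_pow_self 2 (by omega : n - 2 ≠ 0)).mul_left _
      rw [hw] at h4
      omega
  have hZS : h.Z i ≤ S := by
    simp only [Z, hi, if_false]; exact Subgroup.zpowers_le.mpr (h.mem_zpowers_S _).1
  haveI := Fusion.finite_of_le hZS
  have hc2 : Nat.card (centralizerIn S (h.P i)) ≤ 2 := by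
    refine (Subgroup.card_le_of_le hle).trans ?_
    simp only [Z, hi, if_false]
    rw [Nat.card_zpowers]
    refine orderOf_le_of_pow_eq_one two_pos ?_
    rw [pow_two, ← zpow_add, h.zone, hN, two_mul]
  omega

/-- In a simple system every candidate has full automizer. -/
theorem full {F : FusionSystem S} (hs : F.IsSimple 2) (i : ℤ) : Full F (h.P i) (h.Z i) := by
  haveI : Fact (Nat.Prime 2) := ⟨Nat.prime_two⟩
  obtain ⟨P, hne, hfn, hc, hr, hPM⟩ := exists_radical_not_le h.isPGroup hs (h.half_le (i + 1))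
    (h.half_normal _) (h.half_comm _) (h.autGroup_self F hs.1) (h.half_ne _) (h.half_ne_bot _)
  obtain ⟨α, hα, hα1, hαo⟩ := exists_odd h.isPGroup hne hc hr
  obtain ⟨i', rfl⟩ := h.classify hc.1 hα1 hαo
  obtain ⟨d, hd⟩ : (2 : ℤ) ∣ i - i' := by
    by_contra q
    exact hPM (h.P_le_half i' (i + 1) (by omega))
  have hpar : (2 : ℤ) ∣ (e : ℤ) * i' ↔ (2 : ℤ) ∣ (e : ℤ) * i := by
    rw [show (e : ℤ) * i = (e : ℤ) * i' + 2 * ((e : ℤ) * d) by linear_combination (e : ℤ) * hd]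
    omega
  have hstep : h.step i' = h.step i := by simp only [step, hpar]
  have hZeq : h.Z i' = h.Z i := by simp only [Z, hpar]
  have hfull : Full F (h.P i') (h.Z i') := by
    haveI := h.Z_cyclic i'
    by_cases hi : (2 : ℤ) ∣ (e : ℤ) * i'
    · refine full_of_odd h.isPGroup hs.1 hfn hne (h.frameV hi) h.Z_central (h.Z_inv i') ?_ hα hα1 hαo
      rw [one_pow, mul_one]
      haveI := Fusion.finite_of_le hc.1
      exact Subgroup.card_le_of_le (hc.2 _ (isIso_id hc.1).isConj)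
    · exact full_of_odd h.isPGroup hs.1 hfn hne (h.frameQ hi) h.Z_central (h.Z_inv i')
        (h.centralizer_small hc hi) hα hα1 hαo
  obtain ⟨j, hj⟩ : ∃ j : ℤ, (2 : ℤ) ^ n ∣ i' + j * (1 - rr) - i := by
    refine ⟨d * (1 + (e : ℤ) * 2 ^ (n - 2)), ?_⟩
    obtain ⟨m, hm, hm2⟩ := h.h_even
    rcases h.case with q | ⟨q, h3⟩
    · refine ⟨0, ?_⟩
      rw [q]; push_cast; linear_combination -hd
    · obtain ⟨w, hw⟩ : ((2 : ℤ) ^ n ∣ 2 * (2 ^ (n - 2) * 2 ^ (n - 2))) := by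
        rw [← pow_add, ← pow_succ']; exact pow_dvd_pow 2 (by omega)
      refine ⟨-(d * w), ?_⟩
      rw [hm, hm2, q]; push_cast
      linear_combination (-d) * hw - hd
  rw [← hZeq]
  refine hfull.conj (h.mem_zpowers_S j).1 (fun v => ?_) fun t ht => ?_
  · have key : ∀ a : ℤ, c ^ j * (c ^ (a + i') * φ) * (c ^ j)⁻¹ = c ^ (a + i) * φ := fun a => by
      rw [h.conj_f, mul_left_inj, h.zeq]
      convert hj using 1; ring
    have key' : ∀ a : ℤ, c ^ j * c ^ a * (c ^ j)⁻¹ = c ^ a := fun a => by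
      rw [← zpow_neg, ← zpow_add, ← zpow_add]; congr 1; ring
    constructor
    · rintro ⟨a, ha, rfl | rfl⟩
      · exact ⟨a, hstep ▸ ha, Or.inl (key' a)⟩
      · exact ⟨a, hstep ▸ ha, Or.inr (key a)⟩
    · rintro ⟨a, ha, q | q⟩
      · refine ⟨a, hstep ▸ ha, Or.inl ?_⟩
        exact mul_left_cancel (mul_right_cancel (q.trans (key' a).symm))
      · refine ⟨a, hstep ▸ ha, Or.inr ?_⟩
        exact mul_left_cancel (mul_right_cancel (q.trans (key a).symm))
  · rw [h.Z_central _ (h.mem_zpowers_S j).1 t ht, mul_inv_cancel_right]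

theorem le_of_simple {F E : FusionSystem S} (hF : F.IsSimple 2) (hE : E.IsSimple 2) : F ≤ E := by
  haveI : Fact (Nat.Prime 2) := ⟨Nat.prime_two⟩
  refine Fus93.le_of_aut h.isPGroup hF.1 E
    ((h.autGroup_self F hF.1).trans (inn_le_autGroup le_rfl)) fun P hne _ hc hr _ => ?_
  obtain ⟨α, -, hα1, hαo⟩ := exists_odd h.isPGroup hne hc hr
  obtain ⟨i, rfl⟩ := h.classify hc.1 hα1 hαo
  exact (h.full hF i).autGroup_le (h.full hE i)

/-- There is only one simple system. -/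
theorem eq_of_simple {F E : FusionSystem S} (hF : F.IsSimple 2) (hE : E.IsSimple 2) : F = E :=
  fusion_antisymm (h.le_of_simple hF hE) (h.le_of_simple hE hF)

end IsCyc

end Cfsg.Agent.RankTwoReal36
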