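import Cfsg.Agent.RankTwoReal36.WreathMain

/-!
# Automizers in a simple system on a wreathed group
-/

set_option autoImplicit false
set_option linter.unusedSectionVars false
set_option linter.style.haveILetI false

namespace Cfsg.Agent.RankTwoReal36

open Cfsg Cfsg.Agent.Fusion
open Cfsg.FusionSystem (normalizerIn centralizerIn)

variable {Ω : Type*} [Group Ω]

/-- An element of order three of the automizer of `Q` permuting two generators and the inverse of their product. -/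
def StdOn {S : Subgroup Ω} (F : FusionSystem S) (Q : Subgroup Ω) (c₁ c₂ : Ω) : Prop :=
  ∃ σ ∈ F.autGroup Q, ∀ x : Q, ((x : Ω) = c₁ → ((σ x : Q) : Ω) = c₂) ∧
    ((x : Ω) = c₂ → ((σ x : Q) : Ω) = (c₁ * c₂)⁻¹)

set_option maxRecDepth 8000 in
theorem perm_three_key : ∀ s t : Equiv.Perm (Fin 3), s ≠ 1 → s ^ 3 = 1 → t * t = 1 → t ≠ 1 →
    t * s * t = s⁻¹ ∧ ∀ i, s i ≠ i := by decide

set_option maxRecDepth 8000 in
theorem perm_three_pow_six : ∀ s : Equiv.Perm (Fin 3), s ^ 6 = 1 := by decide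

namespace IsWr

variable {S : Subgroup Ω} [Finite S] {n : ℕ} {c₁ c₂ w : Ω} (h : IsWr S n c₁ c₂ w)
include h

local notation "bb" => fun (i j : ℤ) => c₁ ^ i * c₂ ^ j

theorem B_comm (x y : h.B) : x * y = y * x := by
  obtain ⟨i, j, hx⟩ := x.2
  obtain ⟨i', j', hy⟩ := y.2
  refine Subtype.ext ?_
  rw [Subgroup.coe_mul, Subgroup.coe_mul, hx, hy, h.mul_bb, h.mul_bb, add_comm i, add_comm j]

theorem B_hom_ext {α β : MulAut h.B}
    (h₁ : ∀ x : h.B, (x : Ω) = c₁ → α x = β x) (h₂ : ∀ x : h.B, (x : Ω) = c₂ → α x = β x) :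
    α = β := by
  refine MulEquiv.ext fun x => ?_
  obtain ⟨i, j, hx⟩ := x.2
  have e1 : c₁ ∈ h.B := ⟨1, 0, by simp⟩
  have e2 : c₂ ∈ h.B := ⟨0, 1, by simp⟩
  have : x = (⟨c₁, e1⟩ : h.B) ^ i * (⟨c₂, e2⟩ : h.B) ^ j := Subtype.ext (by simpa using hx)
  rw [this, map_mul, map_mul, map_zpow, map_zpow, map_zpow, map_zpow, h₁ _ rfl, h₂ _ rfl]

theorem pat_half (t : ℤ) : h.pat (2 ^ (n - 1)) (2 * t) ≤ h.pat 2 0 := by
  have htwo := h.two
  have h2 : (2 : ℤ) ∣ 2 ^ (n - 1) := dvd_pow_self 2 (by omega)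
  rintro x ⟨i, j, ⟨rfl, hd⟩ | ⟨rfl, hd⟩⟩
  · exact ⟨i, j, Or.inl ⟨rfl, h2.trans hd⟩⟩
  · exact ⟨i, j, Or.inr ⟨rfl, by have := h2.trans hd; omega⟩⟩

theorem centric_hC {F : FusionSystem S} {P : Subgroup Ω} (hc : F.IsCentric P) :
    ∀ x ∈ S, (∀ y ∈ P, y * x = x * y) → x ∈ P := fun _ hx hxc =>
  hc.2 _ (isIso_id hc.1).isConj ⟨hx, Subgroup.mem_centralizer_iff.mpr hxc⟩

theorem autGroup_self (F : FusionSystem S) (hF : F.IsSaturated 2) :
    F.autGroup S ≤ Cfsg.Inn S :=
  autGroup_self_le h.isPGroup hF fun α hα => by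
    by_contra hne
    rcases h.classify le_rfl (fun x hx _ => hx) hne hα with q | ⟨t, q⟩
    · exact h.B_ne q.symm
    · exact h.pat_ne (le_antisymm (h.pat_le _ _) ((le_of_eq q).trans (h.pat_half t)))

theorem has_normal : ∃ M : Subgroup Ω, M ≤ S ∧ (M.subgroupOf S).Normal ∧ M ≠ S ∧ M ≠ ⊥ :=
  ⟨h.B, h.B_le,
    ⟨fun x hx g => (index_two_normal h.B_le fun _ hs _ ht => h.B_two hs ht).1 g g.2 x hx⟩,
    h.B_ne, h.B_ne_bot⟩

theorem conj_pat (s : ℤ) {k u : ℤ} {x : Ω} (hx : x ∈ h.pat k u) :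
    bb s 0 * x * (bb s 0)⁻¹ ∈ h.pat k (u + 2 * s) := by
  obtain ⟨i, j, ⟨rfl, hd⟩ | ⟨rfl, hd⟩⟩ := hx
  · refine ⟨i, j, Or.inl ⟨?_, hd⟩⟩
    rw [h.inv_bb, h.mul_bb, h.mul_bb, h.beq]
    exact ⟨⟨0, by ring⟩, ⟨0, by ring⟩⟩
  · refine ⟨s + i, j - s, Or.inr ⟨?_, hd.trans (dvd_of_eq (by ring))⟩⟩
    rw [h.inv_bb, h.b_bw, h.bw_b, mul_left_inj, h.beq]
    exact ⟨⟨0, by ring⟩, ⟨0, by ring⟩⟩

/-- In a simple system every candidate has full automizer. -/
theorem full {F : FusionSystem S} (hs : F.IsSimple 2) (t : ℤ) :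
    Full F (h.pat (2 ^ (n - 1)) (2 * t)) h.Z := by
  haveI : Fact (Nat.Prime 2) := ⟨Nat.prime_two⟩
  have hMn := index_two_normal h.B_le fun _ hs' _ ht => h.B_two hs' ht
  obtain ⟨P, hne, hfn, hc, hr, hPM⟩ := exists_radical_not_le h.isPGroup hs h.B_le hMn.1 hMn.2
    (h.autGroup_self F hs.1) h.B_ne h.B_ne_bot
  obtain ⟨α, hα, hα1, hαo⟩ := exists_odd h.isPGroup hne hc hr
  rcases h.classify hc.1 (h.centric_hC hc) hα1 hαo with rfl | ⟨t₀, rfl⟩
  · exact absurd le_rfl hPM
  haveI := Fusion.finite_of_le hc.1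
  haveI := Fusion.finite_of_le h.Z_le
  haveI : IsCyclic h.Z := Subgroup.isCyclic_zpowers _
  have hfull : Full F (h.pat (2 ^ (n - 1)) (2 * t₀)) h.Z := by
    refine full_of_odd h.isPGroup hs.1 hfn hne (h.frame t₀) h.Z_central (h.Z_inv h.not_dvd_h) ?_
      hα hα1 hαo
    refine le_trans ?_ (h.frame t₀).four_le
    rw [mul_comm]
    refine Nat.mul_le_mul le_rfl (Subgroup.card_le_of_le fun v hv => ?_)
    exact h.center_char h.not_dvd_h (hc.2 _ (isIso_id hc.1).isConj hv)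
      (Subgroup.mem_centralizer_iff.mp hv.2)
  refine hfull.conj (h.bb_mem (t - t₀) 0).1 (fun x => ⟨fun hx => ?_, fun hx => ?_⟩) fun z hz => ?_
  · rw [show (2 : ℤ) * t = 2 * t₀ + 2 * (t - t₀) by ring]
    exact h.conj_pat _ hx
  · have := h.conj_pat (t₀ - t) hx
    rw [show (2 : ℤ) * t + 2 * (t₀ - t) = 2 * t₀ by ring] at this
    have e : bb (t₀ - t) 0 = (bb (t - t₀) 0)⁻¹ := by
      rw [h.inv_bb, h.beq]; exact ⟨⟨0, by ring⟩, ⟨0, by ring⟩⟩
    rw [e] at this
    simpa [mul_assoc] using this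
  · rw [h.Z_central _ (h.bb_mem (t - t₀) 0).1 z hz, mul_inv_cancel_right]

/-- An automorphism of odd order of the homocyclic subgroup fixing all involutions is trivial. -/
theorem fix_invol (α : MulAut h.B) (hodd : Odd (orderOf α))
    (hfix : ∀ x : h.B, x * x = 1 → α x = x) : α = 1 := by
  haveI : Fact (Nat.Prime 2) := ⟨Nat.prime_two⟩
  haveI := Fusion.finite_of_le h.B_le
  have hp : IsPGroup 2 h.B := h.isPGroup.of_injective _ (Subgroup.inclusion_injective h.B_le)
  have key : ∀ k : ℕ, ∀ x : h.B, x ^ (2 ^ k) = 1 → α x = x := by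
    intro k
    induction k with
    | zero => intro x hx; rw [pow_zero, pow_one] at hx; rw [hx, map_one]
    | succ k ih =>
      intro x hx
      rw [pow_succ', pow_mul, pow_two] at hx
      have h2 := ih _ hx
      refine Fus93.eq_self_of_fixed hp (Nat.coprime_two_right.mpr hodd) x (hfix _ ?_)
      rw [map_mul] at h2
      rw [Commute.mul_mul_mul_comm (h.B_comm _ _), h2, ← mul_inv_rev, inv_mul_cancel]
  refine MulEquiv.ext fun x => ?_
  obtain ⟨k, hk⟩ := hp x
  exact key k x hk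

/-- The automizer of the homocyclic subgroup in a simple system. -/
theorem autB {F : FusionSystem S} (hs : F.IsSimple 2) :
    Nat.card (F.autGroup h.B) ≤ 6 ∧
    ∃ σ ∈ F.autGroup h.B, σ ^ 3 = 1 ∧ (∀ x : h.B, σ x = x → x = 1) ∧
      ∀ τ : MulAut h.B, (∀ x : h.B, ((τ x : h.B) : Ω) = w * x * w⁻¹) → τ * σ * τ = σ⁻¹ := by
  classical
  haveI : Fact (Nat.Prime 2) := ⟨Nat.prime_two⟩
  haveI := Fusion.finite_of_le h.B_le
  haveI := Fusion.finite_mulAut h.B
  have hMn := index_two_normal (h.pat_le 2 0) fun _ hs' _ ht => h.pat_two hs' ht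
  obtain ⟨P, hne, hfn, hc, hr, hPM⟩ := exists_radical_not_le h.isPGroup hs (h.pat_le 2 0) hMn.1
    hMn.2 (h.autGroup_self F hs.1) h.pat_ne h.pat_ne_bot
  obtain ⟨σ, hσ, hσ1, hσo⟩ := exists_odd h.isPGroup hne hc hr
  rcases h.classify hc.1 (h.centric_hC hc) hσ1 hσo with rfl | ⟨t₀, rfl⟩
  swap
  · exact absurd (h.pat_half t₀) hPM
  obtain ⟨-, R, hR⟩ := fullyAutomized_of_fullyNormalized h.isPGroup hs.1 hfn
  let V := {x : h.B // x * x = 1 ∧ x ≠ 1}
  let hh : ℤ := 2 ^ (n - 1)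
  have hz : ∀ a b : ℤ, (2 : ℤ) ^ n ∣ 2 * a → (2 : ℤ) ^ n ∣ 2 * b →
      (⟨bb a b, a, b, rfl⟩ : h.B) * ⟨bb a b, a, b, rfl⟩ = 1 := fun a b ha hb => Subtype.ext (by
    rw [Subgroup.coe_mul, h.mul_bb, ← two_mul, ← two_mul, Subgroup.coe_one, h.bone]; exact ⟨ha, hb⟩)
  have hN := h.pow_h
  have hne1 : ∀ a b : ℤ, (a = hh ∨ b = hh) → bb a b ≠ 1 := fun a b q q' => by
    rcases q with rfl | rfl
    · exact h.not_dvd_h (h.bone.mp q').1
    · exact h.not_dvd_h (h.bone.mp q').2
  let v : Fin 3 → V := ![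
    ⟨⟨bb hh 0, hh, 0, rfl⟩, hz _ _ (dvd_of_eq hN) (by simp),
      fun q => hne1 _ _ (Or.inl rfl) (congrArg Subtype.val q)⟩,
    ⟨⟨bb 0 hh, 0, hh, rfl⟩, hz _ _ (by simp) (dvd_of_eq hN),
      fun q => hne1 _ _ (Or.inr rfl) (congrArg Subtype.val q)⟩,
    ⟨⟨bb hh hh, hh, hh, rfl⟩, hz _ _ (dvd_of_eq hN) (dvd_of_eq hN),
      fun q => hne1 _ _ (Or.inl rfl) (congrArg Subtype.val q)⟩]
  have hv : Function.Bijective v := by
    refine ⟨fun i j q => ?_, fun x => ?_⟩
    · have q' : ((v i).1 : Ω) = (v j).1 := by rw [q]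
      have e0 : ¬ (2 : ℤ) ^ n ∣ hh - 0 := by rw [sub_zero]; exact h.not_dvd_h
      have e1 : ¬ (2 : ℤ) ^ n ∣ 0 - hh := by rw [zero_sub, dvd_neg]; exact h.not_dvd_h
      fin_cases i <;> fin_cases j <;> first
        | rfl
        | (exfalso; exact e0 (h.beq.mp q').1)
        | (exfalso; exact e0 (h.beq.mp q').2)
        | (exfalso; exact e1 (h.beq.mp q').1)
        | (exfalso; exact e1 (h.beq.mp q').2)
    · have h1 : (x.1 : Ω) * x.1 = 1 := congrArg Subtype.val x.2.1
      rcases h.invol_B x.1.2 h1 with q | q | q | q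
      · exact absurd (Subtype.ext q) x.2.2
      · exact ⟨0, Subtype.ext (Subtype.ext q.symm)⟩
      · exact ⟨1, Subtype.ext (Subtype.ext q.symm)⟩
      · exact ⟨2, Subtype.ext (Subtype.ext q.symm)⟩
  let e : V ≃ Fin 3 := (Equiv.ofBijective v hv).symm
  let f : MulAut h.B →* Equiv.Perm V :=
    { toFun := fun α =>
        { toFun := fun x => ⟨α x.1, by rw [← map_mul, x.2.1, map_one],
            fun q => x.2.2 (α.injective (q.trans (map_one α).symm))⟩
          invFun := fun x => ⟨α.symm x.1, by rw [← map_mul, x.2.1, map_one],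
            fun q => x.2.2 (α.symm.injective (q.trans (map_one α.symm).symm))⟩
          left_inv := fun x => Subtype.ext (α.symm_apply_apply _)
          right_inv := fun x => Subtype.ext (α.apply_symm_apply _) }
      map_one' := Equiv.ext fun x => rfl
      map_mul' := fun α β => Equiv.ext fun x => rfl }
  let g : F.autGroup h.B →* Equiv.Perm (Fin 3) :=
    e.permCongrHom.toMonoidHom.comp (f.comp (F.autGroup h.B).subtype)
  have hfapp : ∀ (α : MulAut h.B) (x : V), (f α x).1 = α x.1 := fun α x => rfl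
  have hker : ∀ a : F.autGroup h.B, g a = 1 → ∀ x : h.B, x * x = 1 → (a : MulAut h.B) x = x := by
    intro a ha x hx
    by_cases hx1 : x = 1
    · rw [hx1, map_one]
    have h1 : f (a : MulAut h.B) = 1 := e.permCongrHom.injective (ha.trans (map_one _).symm)
    have := congrArg (fun p : Equiv.Perm V => (p ⟨x, hx, hx1⟩).1) h1
    exact this
  have hKp : IsPGroup 2 g.ker := by
    intro a
    obtain ⟨k, o, ho, hko⟩ := Nat.exists_eq_two_pow_mul_odd (orderOf_pos a).ne'
    refine ⟨k, Subtype.ext (Subtype.ext ?_)⟩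
    refine h.fix_invol _ ?_ fun x hx => hker _ ?_ x hx
    · rw [Subgroup.orderOf_coe, Subgroup.orderOf_coe, orderOf_pow, hko, Nat.gcd_mul_right_left,
        Nat.mul_div_cancel_left _ (Nat.two_pow_pos k)]
      exact ho
    · exact (a ^ (2 ^ k)).2
  have hginj : Function.Injective g := by
    rw [← MonoidHom.ker_eq_bot_iff, Subgroup.eq_bot_iff_forall]
    intro a ha
    have hle := R.3 (R.isPGroup'.to_sup_of_normal_right hKp) le_sup_left
    have haR : a ∈ (R : Subgroup (F.autGroup h.B)) := hle ▸ Subgroup.mem_sup_right ha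
    rw [hR] at haR
    obtain ⟨s, hs', hse⟩ := mem_autInducedBy.mp haR
    obtain ⟨i, j, rfl | rfl⟩ := h.mem_S hs'
    · refine Subtype.ext (MulEquiv.ext fun x => Subtype.ext ?_)
      refine (hse x).trans ?_
      obtain ⟨i', j', hx⟩ := x.2
      show _ = (x : Ω)
      rw [hx, h.inv_bb, h.mul_bb, h.mul_bb, h.beq]
      exact ⟨⟨0, by ring⟩, ⟨0, by ring⟩⟩
    · exfalso
      have hw' := hker a ha (v 0).1 (v 0).2.1
      have h1 : bb i j * w * bb hh 0 * (bb i j * w)⁻¹ = bb hh 0 :=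
        (hse (v 0).1).symm.trans (congrArg Subtype.val hw')
      rw [h.bw_b, h.inv_bw, h.bw_bw, h.beq] at h1
      exact h.not_dvd_h (h1.2.trans (dvd_of_eq (by show _ = hh; ring)))
  have hcard : Nat.card (F.autGroup h.B) ≤ 6 := by
    refine (Nat.card_le_card_of_injective g hginj).trans ?_
    rw [Nat.card_eq_fintype_card, Fintype.card_perm, Fintype.card_fin]
    rfl
  let s : F.autGroup h.B := ⟨σ, hσ⟩
  have hs3 : s ^ 3 = 1 := by
    have h6 : s ^ (3 * 2) = 1 := hginj (by rw [map_pow, map_one, perm_three_pow_six])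
    have hd : orderOf s ∣ 3 * 2 := orderOf_dvd_of_pow_eq_one h6
    have ho : Odd (orderOf s) := by rw [← Subgroup.orderOf_coe]; exact hσo
    exact orderOf_dvd_iff_pow_eq_one.mp ((Nat.coprime_two_right.mpr ho).dvd_of_dvd_mul_right hd)
  have hgs1 : g s ≠ 1 := fun q => hσ1 (congrArg Subtype.val (hginj (q.trans (map_one g).symm)))
  have hgs3 : g s ^ 3 = 1 := by rw [← map_pow, hs3, map_one]
  have hwB : ∀ x : h.B, w * x * w⁻¹ ∈ h.B := fun x => by
    obtain ⟨i, j, hx⟩ := x.2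
    refine ⟨j, i, ?_⟩
    rw [hx, h.wb, mul_inv_cancel_right]
  let τ₀ : MulAut h.B :=
    { toFun := fun x => ⟨w * x * w⁻¹, hwB x⟩
      invFun := fun x => ⟨w * x * w⁻¹, hwB x⟩
      left_inv := fun x => Subtype.ext (by simp [h.winv, ← mul_assoc, h.inv, mul_assoc _ w w])
      right_inv := fun x => Subtype.ext (by simp [h.winv, ← mul_assoc, h.inv, mul_assoc _ w w])
      map_mul' := fun x y => Subtype.ext (by simp [mul_assoc]) }
  have hτ₀ : τ₀ ∈ F.autGroup h.B :=
    autInducedBy_le_autGroup h.B_le (mem_autInducedBy.mpr ⟨w, h.wS, fun x => rfl⟩)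
  let t : F.autGroup h.B := ⟨τ₀, hτ₀⟩
  have ht2 : t * t = 1 := Subtype.ext (MulEquiv.ext fun x => τ₀.left_inv x)
  have htne : g t ≠ 1 := fun q => by
    have hw' := hker t q (v 0).1 (v 0).2.1
    have h1 : w * bb hh 0 * w⁻¹ = bb hh 0 := congrArg Subtype.val hw'
    rw [h.wb, mul_inv_cancel_right, h.beq, zero_sub, dvd_neg] at h1
    exact h.not_dvd_h h1.1
  obtain ⟨hinv, hfpf⟩ := perm_three_key _ _ hgs1 hgs3 (by rw [← map_mul, ht2, map_one]) htne
  refine ⟨hcard, σ, hσ, congrArg Subtype.val hs3, fun x hx => ?_, fun τ hτ => ?_⟩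
  · by_contra hx1
    haveI := Fusion.finite_of_le h.B_le
    obtain ⟨k, hk⟩ := h.isPGroup.of_injective _ (Subgroup.inclusion_injective h.B_le) x
    obtain ⟨y, hy1, hy2, hyσ⟩ : ∃ y : h.B, y * y = 1 ∧ y ≠ 1 ∧ σ y = y := by
      revert x
      induction k with
      | zero => intro x _ hx1 hk; exact absurd (by simpa using hk) hx1
      | succ k ih =>
        intro x hx hx1 hk
        by_cases hxx : x * x = 1
        · exact ⟨x, hxx, hx1, hx⟩
        · refine ih (x * x) (by rw [map_mul, hx]) hxx ?_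
          rwa [pow_succ', pow_mul, pow_two] at hk
    refine hfpf (e ⟨y, hy1, hy2⟩) ?_
    show e (f σ (e.symm (e ⟨y, hy1, hy2⟩))) = _
    rw [e.symm_apply_apply]
    exact congrArg e (Subtype.ext hyσ)
  · have hττ : τ = τ₀ := MulEquiv.ext fun x => Subtype.ext (hτ x)
    have h1 : t * s * t = s⁻¹ := hginj (by rw [map_mul, map_mul, map_inv, hinv])
    rw [hττ]
    exact congrArg Subtype.val h1

/-- Coordinates in which the automizer is standard. -/
theorem exists_std {F : FusionSystem S} (hs : F.IsSimple 2) :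
    ∃ (a b : Ω) (h' : IsWr S n a b w), StdOn F h'.B a b := by
  obtain ⟨-, σ, hσ, h3, hfpf, hinv⟩ := h.autB hs
  haveI := Fusion.finite_of_le h.B_le
  have hwB : ∀ x : h.B, w * x * w⁻¹ ∈ h.B := fun x => by
    obtain ⟨i, j, hx⟩ := x.2
    refine ⟨j, i, ?_⟩
    rw [hx, h.wb, mul_inv_cancel_right]
  let τ : MulAut h.B :=
    { toFun := fun x => ⟨w * x * w⁻¹, hwB x⟩
      invFun := fun x => ⟨w * x * w⁻¹, hwB x⟩
      left_inv := fun x => Subtype.ext (by simp [h.winv, ← mul_assoc, h.inv, mul_assoc _ w w])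
      right_inv := fun x => Subtype.ext (by simp [h.winv, ← mul_assoc, h.inv, mul_assoc _ w w])
      map_mul' := fun x y => Subtype.ext (by simp [mul_assoc]) }
  have hts : τ * σ * τ = σ⁻¹ := hinv τ fun x => rfl
  have hτ2 : ∀ x, τ (τ x) = x := τ.left_inv
  let y : h.B := ⟨bb 1 1, 1, 1, rfl⟩
  have hτy : τ y = y := Subtype.ext (by
    show w * bb 1 1 * w⁻¹ = bb 1 1
    rw [h.wb, mul_inv_cancel_right])
  have hσ3 : ∀ x, σ (σ (σ x)) = x := fun x => by
    have := congrArg (fun q : MulAut h.B => q x) h3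
    simpa [pow_succ] using this
  have hσi : ∀ x, σ⁻¹ x = σ (σ x) := fun x => by
    rw [MulAut.inv_def, MulEquiv.symm_apply_eq]; exact (hσ3 x).symm
  have hlc : ∀ p q r : h.B, p * (q * r) = q * (p * r) := fun p q r => by
    rw [← mul_assoc, h.B_comm p q, mul_assoc]
  have hprod : y * σ y * σ (σ y) = 1 := hfpf _ (by
    rw [map_mul, map_mul, hσ3]
    simp only [mul_assoc, h.B_comm, hlc])
  have hτσ : τ (σ y) = σ (σ y) := by
    have := congrArg (fun q : MulAut h.B => q y) hts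
    simp only [MulAut.mul_apply, hτy, hσi] at this
    exact this
  let a : h.B := (σ y)⁻¹
  let b : h.B := (σ (σ y))⁻¹
  have hab : a * b = y := by
    rw [← mul_inv_rev, inv_eq_iff_mul_eq_one, ← hprod]
    simp only [mul_assoc, h.B_comm, hlc]
  have hσa : σ a = b := map_inv σ _
  have hσb : σ b = (a * b)⁻¹ := by rw [hab, map_inv, hσ3]
  have hτa : τ a = b := by rw [map_inv, hτσ]
  have hτb : τ b = a := by rw [← hτa, hτ2]
  have hyo : orderOf y = 2 ^ n := by
    rw [← Subgroup.orderOf_coe, ← Nat.card_zpowers]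
    refine le_antisymm ?_ ?_
    · rw [Nat.card_zpowers]
      refine orderOf_le_of_pow_eq_one (Nat.two_pow_pos n) ?_
      rw [← zpow_natCast, h.zpow_u, h.bone]
      push_cast
      exact ⟨dvd_rfl, dvd_rfl⟩
    · rw [Nat.card_zpowers]
      by_contra! q
      have h1 := pow_orderOf_eq_one (y : Ω)
      rw [← zpow_natCast, h.zpow_u, h.bone] at h1
      have h2 : 2 ^ n ∣ orderOf (y : Ω) := by exact_mod_cast h1.1
      have hpos : 0 < orderOf (y : Ω) := by
        rw [Subgroup.orderOf_coe]; exact orderOf_pos y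
      exact absurd (Nat.le_of_dvd hpos h2) (not_le.mpr q)
  have hao : orderOf a = 2 ^ n := by
    rw [show a = (σ y)⁻¹ from rfl, orderOf_inv, MulEquiv.orderOf_eq σ y, hyo]
  have ind : ∀ i j : ℤ, a ^ i * b ^ j = 1 → a ^ i = 1 := by
    let φ : ℤ → ℤ → h.B := fun i j => a ^ i * b ^ j
    have hadd : ∀ i j i' j' : ℤ, φ i j = 1 → φ i' j' = 1 → φ (i + i') (j + j') = 1 := by
      intro i j i' j' q q'
      show a ^ (i + i') * b ^ (j + j') = 1
      calc a ^ (i + i') * b ^ (j + j') = φ i j * φ i' j' := by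
            simp only [φ, zpow_add, mul_assoc, h.B_comm, hlc]
        _ = 1 := by rw [q, q', one_mul]
    have hneg : ∀ i j : ℤ, φ i j = 1 → φ (-i) (-j) = 1 := by
      intro i j q
      show a ^ (-i) * b ^ (-j) = 1
      rw [zpow_neg, zpow_neg, h.B_comm, ← mul_inv_rev, show a ^ i * b ^ j = 1 from q, inv_one]
    have hsw : ∀ i j : ℤ, φ i j = 1 → φ j i = 1 := by
      intro i j q
      have := congrArg τ q
      simp only [φ, map_mul, map_zpow, hτa, hτb, map_one] at this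
      show a ^ j * b ^ i = 1
      rw [h.B_comm]; exact this
    have hsh : ∀ i j : ℤ, φ i j = 1 → φ (-j) (i - j) = 1 := by
      intro i j q
      have h1 : b ^ i * ((a * b)⁻¹) ^ j = 1 := by
        have := congrArg σ (show a ^ i * b ^ j = 1 from q)
        rwa [map_mul, map_zpow, map_zpow, hσa, hσb, map_one] at this
      show a ^ (-j) * b ^ (i - j) = 1
      rw [← h1, inv_zpow' (a * b) j, Commute.mul_zpow (h.B_comm a b), sub_eq_add_neg, zpow_add, hlc]
    intro i j q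
    have e1 := hadd _ _ _ _ (hsw i j q) (hsh i j q)
    rw [add_neg_cancel, show i + (i - j) = 2 * i - j by ring] at e1
    have e2 := hadd _ _ _ _ q e1
    rw [add_zero, show j + (2 * i - j) = 2 * i by ring] at e2
    have e3 := hadd _ _ _ _ (hneg _ _ (hsw _ _ e2)) (hadd _ _ _ _ e2 e2)
    rw [show -(2 * i) + (i + i) = 0 by ring, show -i + (2 * i + 2 * i) = 3 * i by ring] at e3
    have e4 := hsw _ _ e3
    simp only [φ, zpow_zero, mul_one] at e4
    rw [← orderOf_dvd_iff_zpow_eq_one, hao] at e4 ⊢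
    push_cast at e4 ⊢
    refine IsCoprime.dvd_of_dvd_mul_left ?_ e4
    refine IsCoprime.pow_left ?_
    exact ⟨-1, 1, by norm_num⟩
  have hwinv := h.winv
  have h' : IsWr S n (a : Ω) (b : Ω) w :=
    { c₁S := h.B_le a.2
      c₂S := h.B_le b.2
      wS := h.wS
      ord := by rw [Subgroup.orderOf_coe, hao]
      comm := congrArg Subtype.val (h.B_comm a b)
      inv := h.inv
      swap := by
        have := congrArg Subtype.val hτa
        change w * (a : Ω) * w⁻¹ = (b : Ω) at this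
        rwa [hwinv] at this
      ind := fun i j q => by
        have := ind i j (Subtype.ext (by
          rw [Subgroup.coe_mul, Subgroup.coe_zpow, Subgroup.coe_zpow]; exact q))
        exact (Subgroup.coe_zpow h.B a i).symm.trans (congrArg Subtype.val this)
      card := h.card
      two := h.two }
  refine ⟨a, b, h', ?_⟩
  have hB : h'.B = h.B := by
    refine le_antisymm ?_ fun x hx => ?_
    · rintro x ⟨i, j, rfl⟩
      exact mul_mem (zpow_mem a.2 i) (zpow_mem b.2 j)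
    · obtain ⟨i, j, q | q⟩ := h'.mem_S (h.B_le hx)
      · exact ⟨i, j, q⟩
      · exfalso
        obtain ⟨i', j', hw⟩ : w ∈ h.B := by
          have h1 : ((a : Ω) ^ i * (b : Ω) ^ j)⁻¹ * x ∈ h.B :=
            mul_mem (inv_mem (mul_mem (zpow_mem a.2 i) (zpow_mem b.2 j))) hx
          rwa [q, inv_mul_cancel_left] at h1
        refine h.cross (i := i') (j := j') (i' := 0) (j' := 0) ?_
        rw [← hw, h.zero_bb, one_mul]
  rw [hB]
  refine ⟨σ, hσ, fun x => ⟨fun q => ?_, fun q => ?_⟩⟩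
  · rw [show x = a from Subtype.ext q, hσa]
  · rw [show x = b from Subtype.ext q, hσb]; rfl

/-- Standard systems coincide. -/
theorem le_of_std {F E : FusionSystem S} (hF : F.IsSimple 2) (hE : E.IsSimple 2)
    (hFs : StdOn F h.B c₁ c₂) (hEs : StdOn E h.B c₁ c₂) : F ≤ E := by
  haveI : Fact (Nat.Prime 2) := ⟨Nat.prime_two⟩
  refine Fus93.le_of_aut h.isPGroup hF.1 E
    ((h.autGroup_self F hF.1).trans (inn_le_autGroup le_rfl)) fun P hne _ hc hr _ => ?_
  obtain ⟨α, -, hα1, hαo⟩ := exists_odd h.isPGroup hne hc hr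
  rcases h.classify hc.1 (h.centric_hC hc) hα1 hαo with rfl | ⟨t, rfl⟩
  swap
  · exact (h.full hF t).autGroup_le (h.full hE t)
  haveI := Fusion.finite_of_le h.B_le
  haveI := Fusion.finite_mulAut h.B
  obtain ⟨σ, hσ, hσc⟩ := hFs
  obtain ⟨σ', hσ', hσc'⟩ := hEs
  have hσσ : σ = σ' := h.B_hom_ext
    (fun x q => Subtype.ext (((hσc x).1 q).trans ((hσc' x).1 q).symm))
    fun x q => Subtype.ext (((hσc x).2 q).trans ((hσc' x).2 q).symm)
  subst hσσ
  let a : h.B := ⟨c₁, 1, 0, by simp⟩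
  let b : h.B := ⟨c₂, 0, 1, by simp⟩
  have hσa : σ a = b := Subtype.ext ((hσc a).1 rfl)
  have hσb : σ b = (a * b)⁻¹ := Subtype.ext ((hσc b).2 rfl)
  have h3 : σ ^ 3 = 1 := by
    have ha3 : σ (σ (σ a)) = a := by
      rw [hσa, hσb, map_inv, map_mul, hσa, hσb, mul_inv_rev, inv_inv, mul_inv_cancel_right]
    refine h.B_hom_ext (fun x q => ?_) fun x q => ?_
    · rw [show x = a from Subtype.ext q]
      show (σ ^ 3) a = a
      simpa [pow_succ] using ha3
    · rw [show x = b from Subtype.ext q]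
      show (σ ^ 3) b = b
      have := congrArg σ ha3
      rw [hσa] at this
      simpa [pow_succ, hσa] using this
  have hσ1 : σ ≠ 1 := fun q => by
    rw [q, MulAut.one_apply] at hσa
    have h1 : bb 1 0 = bb 0 1 := by simpa [a, b] using congrArg Subtype.val hσa
    rw [h.beq, sub_zero] at h1
    have := Int.le_of_dvd one_pos h1.1
    have : (2 : ℤ) ^ 2 ≤ 2 ^ n := pow_le_pow_right₀ (by norm_num) h.two
    omega
  have hwB : ∀ x : h.B, w * x * w⁻¹ ∈ h.B := fun x => by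
    obtain ⟨i, j, hx⟩ := x.2
    refine ⟨j, i, ?_⟩
    rw [hx, h.wb, mul_inv_cancel_right]
  let τ : MulAut h.B :=
    { toFun := fun x => ⟨w * x * w⁻¹, hwB x⟩
      invFun := fun x => ⟨w * x * w⁻¹, hwB x⟩
      left_inv := fun x => Subtype.ext (by simp [h.winv, ← mul_assoc, h.inv, mul_assoc _ w w])
      right_inv := fun x => Subtype.ext (by simp [h.winv, ← mul_assoc, h.inv, mul_assoc _ w w])
      map_mul' := fun x y => Subtype.ext (by simp [mul_assoc]) }
  have hτR : τ ∈ autInducedBy S h.B := mem_autInducedBy.mpr ⟨w, h.wS, fun x => rfl⟩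
  have hτF := autInducedBy_le_autGroup (F := F) h.B_le hτR
  have hτE := autInducedBy_le_autGroup (F := E) h.B_le hτR
  have hτ2 : orderOf τ = 2 := by
    refine orderOf_eq_prime (MulEquiv.ext fun x => ?_) fun q => ?_
    · rw [pow_two]; exact τ.left_inv x
    · have hh : τ a = a := by rw [q]; rfl
      have h1 : w * c₁ * w⁻¹ = c₁ := congrArg Subtype.val hh
      rw [h.winv, h.swap] at h1
      have h2 : bb 1 0 = bb 0 1 := by simpa using h1.symm
      rw [h.beq, sub_zero] at h2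
      have := Int.le_of_dvd one_pos h2.1
      have : (2 : ℤ) ^ 2 ≤ 2 ^ n := pow_le_pow_right₀ (by norm_num) h.two
      omega
  let W := Subgroup.closure ({σ, τ} : Set (MulAut h.B))
  have hWF : W ≤ F.autGroup h.B := (Subgroup.closure_le _).mpr (by
    rintro v (rfl | rfl)
    exacts [hσ, hτF])
  have hWE : W ≤ E.autGroup h.B := (Subgroup.closure_le _).mpr (by
    rintro v (rfl | rfl)
    exacts [hσ', hτE])
  have h6 : 6 ≤ Nat.card W := by
    have hσW : σ ∈ W := Subgroup.subset_closure (Or.inl rfl)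
    have hτW : τ ∈ W := Subgroup.subset_closure (Or.inr rfl)
    have hσo : orderOf σ = 3 := by
      haveI : Fact (Nat.Prime 3) := ⟨Nat.prime_three⟩
      exact orderOf_eq_prime h3 hσ1
    refine Nat.le_of_dvd Nat.card_pos ?_
    refine Nat.Coprime.mul_dvd_of_dvd_of_dvd (a := Nat.card W) (m := 2) (n := 3) (by norm_num) ?_ ?_
    · rw [← hτ2, ← Subgroup.orderOf_mk τ hτW]; exact orderOf_dvd_natCard _
    · rw [← hσo, ← Subgroup.orderOf_mk σ hσW]; exact orderOf_dvd_natCard _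
  have := Subgroup.eq_of_le_of_card_ge hWF ((h.autB hF).1.trans h6)
  exact this.ge.trans hWE

/-- There is only one standard simple system. -/
theorem eq_of_std {F E : FusionSystem S} (hF : F.IsSimple 2) (hE : E.IsSimple 2)
    (hFs : StdOn F h.B c₁ c₂) (hEs : StdOn E h.B c₁ c₂) : F = E :=
  fusion_antisymm (h.le_of_std hF hE hFs hEs) (h.le_of_std hE hF hEs hFs)

end IsWr

end Cfsg.Agent.RankTwoReal36
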