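import Cfsg.Agent.RankTwoReal36.CycMain
import Cfsg.Agent.RankTwoReal36.WreathAut
import Cfsg.Agent.Lib.SupersolType.Fusion
import Cfsg.Agent.Fus93.Iso

/-!
# Realisation by models with the same coordinates
-/

set_option autoImplicit false
set_option linter.unusedSectionVars false
set_option linter.style.haveILetI false

namespace Cfsg.Agent.RankTwoReal36

open Cfsg Cfsg.Agent.Fusion
open Cfsg.FusionSystem (normalizerIn centralizerIn)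

variable {Ω : Type*} [Group Ω] {G : Type*} [Group G]

/-- An embedding from a multiplicative bijective relation. -/
theorem exists_emb {S : Subgroup Ω} {S₀ : Subgroup G} (R : Ω → G → Prop)
    (left : ∀ x ∈ S, ∃ y, R x y) (mem : ∀ x y, R x y → y ∈ S₀) (right : ∀ y ∈ S₀, ∃ x ∈ S, R x y)
    (uniq : ∀ x y y', R x y → R x y' → y = y') (inj : ∀ x x' y, R x y → R x' y → x = x')
    (mul : ∀ x x' y y', R x y → R x' y' → R (x * x') (y * y')) :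
    ∃ ι : S →* G, Function.Injective ι ∧ ι.range = S₀ ∧ ∀ x : S, R x (ι x) := by
  choose f hf using left
  refine ⟨MonoidHom.mk' (fun x : S => f x x.2)
    (fun x x' => uniq _ _ _ (hf _ _) (mul _ _ _ _ (hf _ x.2) (hf _ x'.2))), fun x x' q => ?_, ?_,
    fun x => hf _ x.2⟩
  · exact Subtype.ext (inj _ _ _ (hf _ x.2) ((show f x x.2 = f x' x'.2 from q) ▸ hf _ x'.2))
  · refine le_antisymm ?_ fun y hy => ?_
    · rintro y ⟨x, rfl⟩; exact mem _ _ (hf _ x.2)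
    · obtain ⟨x, hx, hxy⟩ := right y hy
      exact ⟨⟨x, hx⟩, uniq _ _ _ (hf _ _) hxy⟩

theorem pullback_isRealizedBy {S : Subgroup Ω} (ι : S →* G) (hι : Function.Injective ι) :
    (SupersolType.pullback ι hι).IsRealizedBy ι :=
  ⟨hι, fun _ hP _ hφ => ⟨fun h => h.2.2, fun h => ⟨hP, hφ, h⟩⟩⟩

theorem pullback_isSimple [Finite G] {S : Subgroup Ω} [Finite S] (ι : S →* G)
    (hι : Function.Injective ι) (hs : (Cfsg.groupFusionSystem ι.range).IsSimple 2) :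
    (SupersolType.pullback ι hι).IsSimple 2 := by
  haveI : Fact (Nat.Prime 2) := ⟨Nat.prime_two⟩
  exact (S5343.realized_fiso (pullback_isRealizedBy ι hι)).isSimple hs

/-- The systems on equally shaped dihedral or semidihedral groups are realized by each other. -/
theorem IsCyc.realized [Finite G] {S : Subgroup Ω} [Finite S] {n e : ℕ} {c φ : Ω}
    (h : IsCyc S n e c φ) {S₀ : Subgroup G} {c₀ φ₀ : G} (h₀ : IsCyc S₀ n e c₀ φ₀)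
    {F : FusionSystem S} (hs : F.IsSimple 2) (hs₀ : (Cfsg.groupFusionSystem S₀).IsSimple 2) :
    ∃ ι : S →* G, F.IsRealizedBy ι ∧ ι.range = S₀ := by
  let R : Ω → G → Prop := fun x y =>
    ∃ i : ℤ, (x = c ^ i ∧ y = c₀ ^ i) ∨ (x = c ^ i * φ ∧ y = c₀ ^ i * φ₀)
  obtain ⟨ι, hι, hr, -⟩ := exists_emb (S := S) (S₀ := S₀) R
    (fun x hx => by
      obtain ⟨i, rfl | rfl⟩ := h.mem_S hx
      exacts [⟨_, i, Or.inl ⟨rfl, rfl⟩⟩, ⟨_, i, Or.inr ⟨rfl, rfl⟩⟩])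
    (fun x y => by
      rintro ⟨i, ⟨-, rfl⟩ | ⟨-, rfl⟩⟩
      exacts [zpow_mem h₀.cS i, S₀.mul_mem (zpow_mem h₀.cS i) h₀.φS])
    (fun y hy => by
      obtain ⟨i, rfl | rfl⟩ := h₀.mem_S hy
      exacts [⟨_, zpow_mem h.cS i, i, Or.inl ⟨rfl, rfl⟩⟩,
        ⟨_, S.mul_mem (zpow_mem h.cS i) h.φS, i, Or.inr ⟨rfl, rfl⟩⟩])
    (fun x y y' => by
      rintro ⟨i, ⟨rfl, rfl⟩ | ⟨rfl, rfl⟩⟩ ⟨j, ⟨q, rfl⟩ | ⟨q, rfl⟩⟩
      · exact h₀.zeq.mpr (h.zeq.mp q)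
      · exact absurd q h.cross
      · exact absurd q.symm h.cross
      · rw [mul_left_inj] at q ⊢; exact h₀.zeq.mpr (h.zeq.mp q))
    (fun x x' y => by
      rintro ⟨i, ⟨rfl, rfl⟩ | ⟨rfl, rfl⟩⟩ ⟨j, ⟨rfl, q⟩ | ⟨rfl, q⟩⟩
      · exact h.zeq.mpr (h₀.zeq.mp q)
      · exact absurd q h₀.cross
      · exact absurd q.symm h₀.cross
      · rw [mul_left_inj] at q ⊢; exact h.zeq.mpr (h₀.zeq.mp q))
    (fun x x' y y' => by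
      rintro ⟨i, ⟨rfl, rfl⟩ | ⟨rfl, rfl⟩⟩ ⟨j, ⟨rfl, rfl⟩ | ⟨rfl, rfl⟩⟩
      · exact ⟨_, Or.inl ⟨(zpow_add c i j).symm, (zpow_add c₀ i j).symm⟩⟩
      · exact ⟨_, Or.inr ⟨h.cc i j, h₀.cc i j⟩⟩
      · exact ⟨_, Or.inr ⟨h.fc i j, h₀.fc i j⟩⟩
      · exact ⟨_, Or.inl ⟨h.ff i j, h₀.ff i j⟩⟩)
  subst hr
  rw [h.eq_of_simple hs (pullback_isSimple ι hι hs₀)]
  exact ⟨ι, pullback_isRealizedBy ι hι, rfl⟩

/-- The systems on wreathed groups of the same order are realized by each other. -/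
theorem IsWr.realized [Finite G] {S : Subgroup Ω} [Finite S] {n : ℕ} {d₁ d₂ w : Ω}
    (hd : IsWr S n d₁ d₂ w) {S₀ : Subgroup G} {e₁ e₂ w₀ : G} (he : IsWr S₀ n e₁ e₂ w₀)
    {F : FusionSystem S} (hs : F.IsSimple 2) (hs₀ : (Cfsg.groupFusionSystem S₀).IsSimple 2) :
    ∃ ι : S →* G, F.IsRealizedBy ι ∧ ι.range = S₀ := by
  obtain ⟨c₁, c₂, h, hstd⟩ := hd.exists_std hs
  obtain ⟨a₁, a₂, h₀, σ₀, hσ₀, hσc⟩ := he.exists_std hs₀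
  obtain ⟨-, -, g, hg⟩ := Fusion.isMap_group_iff.mp ((mem_autGroup h₀.B_le).mp hσ₀).1
  have hm1 : a₁ ∈ h₀.B := ⟨1, 0, by simp⟩
  have hm2 : a₂ ∈ h₀.B := ⟨0, 1, by simp⟩
  have hg1 : g * a₁ * g⁻¹ = a₂ := by
    rw [← hg a₁ hm1, autFun_of_mem σ₀ hm1]; exact (hσc ⟨a₁, hm1⟩).1 rfl
  have hg2 : g * a₂ * g⁻¹ = (a₁ * a₂)⁻¹ := by
    rw [← hg a₂ hm2, autFun_of_mem σ₀ hm2]; exact (hσc ⟨a₂, hm2⟩).2 rfl
  let R : Ω → G → Prop := fun x y =>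
    ∃ i j : ℤ, (x = c₁ ^ i * c₂ ^ j ∧ y = a₁ ^ i * a₂ ^ j) ∨
      (x = c₁ ^ i * c₂ ^ j * w ∧ y = a₁ ^ i * a₂ ^ j * w₀)
  obtain ⟨ι, hι, hr, hR⟩ := exists_emb (S := S) (S₀ := S₀) R
    (fun x hx => by
      obtain ⟨i, j, rfl | rfl⟩ := h.mem_S hx
      exacts [⟨_, i, j, Or.inl ⟨rfl, rfl⟩⟩, ⟨_, i, j, Or.inr ⟨rfl, rfl⟩⟩])
    (fun x y => by
      rintro ⟨i, j, ⟨-, rfl⟩ | ⟨-, rfl⟩⟩
      exacts [(h₀.bb_mem i j).1, (h₀.bb_mem i j).2])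
    (fun y hy => by
      obtain ⟨i, j, rfl | rfl⟩ := h₀.mem_S hy
      exacts [⟨_, (h.bb_mem i j).1, i, j, Or.inl ⟨rfl, rfl⟩⟩,
        ⟨_, (h.bb_mem i j).2, i, j, Or.inr ⟨rfl, rfl⟩⟩])
    (fun x y y' => by
      rintro ⟨i, j, ⟨rfl, rfl⟩ | ⟨rfl, rfl⟩⟩ ⟨i', j', ⟨q, rfl⟩ | ⟨q, rfl⟩⟩
      · exact h₀.beq.mpr (h.beq.mp q)
      · exact absurd q h.cross
      · exact absurd q.symm h.cross
      · rw [mul_left_inj] at q ⊢; exact h₀.beq.mpr (h.beq.mp q))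
    (fun x x' y => by
      rintro ⟨i, j, ⟨rfl, rfl⟩ | ⟨rfl, rfl⟩⟩ ⟨i', j', ⟨rfl, q⟩ | ⟨rfl, q⟩⟩
      · exact h.beq.mpr (h₀.beq.mp q)
      · exact absurd q h₀.cross
      · exact absurd q.symm h₀.cross
      · rw [mul_left_inj] at q ⊢; exact h.beq.mpr (h₀.beq.mp q))
    (fun x x' y y' => by
      rintro ⟨i, j, ⟨rfl, rfl⟩ | ⟨rfl, rfl⟩⟩ ⟨i', j', ⟨rfl, rfl⟩ | ⟨rfl, rfl⟩⟩
      · exact ⟨_, _, Or.inl ⟨h.mul_bb i j i' j', h₀.mul_bb i j i' j'⟩⟩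
      · exact ⟨_, _, Or.inr ⟨h.b_bw i j i' j', h₀.b_bw i j i' j'⟩⟩
      · exact ⟨_, _, Or.inr ⟨h.bw_b i j i' j', h₀.bw_b i j i' j'⟩⟩
      · exact ⟨_, _, Or.inl ⟨h.bw_bw i j i' j', h₀.bw_bw i j i' j'⟩⟩)
  subst hr
  have hE := pullback_isSimple ι hι hs₀
  have hreal := pullback_isRealizedBy ι hι
  have hval : ∀ (x : S) (i j : ℤ), (x : Ω) = c₁ ^ i * c₂ ^ j → ι x = a₁ ^ i * a₂ ^ j := by
    intro x i j q
    obtain ⟨i', j', ⟨q', e⟩ | ⟨q', e⟩⟩ := hR x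
    · rw [e]; exact h₀.beq.mpr (h.beq.mp (q'.symm.trans q))
    · exact absurd (q.symm.trans q') h.cross
  have hstd' : StdOn (SupersolType.pullback ι hι) h.B c₁ c₂ := by
    obtain ⟨σ, -, hσ⟩ := hstd
    have e1 : c₁ ∈ h.B := ⟨1, 0, by simp⟩
    have e2 : c₂ ∈ h.B := ⟨0, 1, by simp⟩
    have s1 : ((σ ⟨c₁, e1⟩ : h.B) : Ω) = c₂ := (hσ ⟨c₁, e1⟩).1 rfl
    have s2 : ((σ ⟨c₂, e2⟩ : h.B) : Ω) = (c₁ * c₂)⁻¹ := (hσ ⟨c₂, e2⟩).2 rfl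
    refine ⟨σ, Subgroup.subset_closure ⟨h.B_le, fun x => h.B_le (σ x).2, g, fun x => ?_⟩, hσ⟩
    obtain ⟨i, j, hx⟩ := x.2
    have hσx : ((σ x : h.B) : Ω) = c₁ ^ (-j) * c₂ ^ (i - j) := by
      have : x = (⟨c₁, e1⟩ : h.B) ^ i * (⟨c₂, e2⟩ : h.B) ^ j := Subtype.ext (by simpa using hx)
      rw [this, map_mul, map_zpow, map_zpow, Subgroup.coe_mul, Subgroup.coe_zpow, Subgroup.coe_zpow,
        s1, s2, inv_zpow', h.comm.mul_zpow, ← mul_assoc, ← (h.comm.zpow_zpow (-j) i).eq, mul_assoc,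
        ← zpow_add, sub_eq_add_neg]
    rw [hval _ _ _ hσx, hval _ i j hx, ← conj_mul, ← conj_zpow, ← conj_zpow, hg1, hg2, inv_zpow',
      h₀.comm.mul_zpow, ← mul_assoc, ← (h₀.comm.zpow_zpow (-j) i).eq, mul_assoc, ← zpow_add,
      sub_eq_add_neg]
  rw [h.eq_of_std hs hE hstd hstd']
  exact ⟨ι, hreal, rfl⟩

end Cfsg.Agent.RankTwoReal36
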