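import Cfsg.Agent.RankTwoReal36.Cyc
import Cfsg.Agent.Fus93.PSLTwo
import Mathlib.FieldTheory.Finite.GaloisField

/-!
# Dihedral models in `PSL₂`
-/

set_option autoImplicit false
set_option linter.unusedSectionVars false
set_option linter.style.haveILetI false

namespace Cfsg.Agent.RankTwoReal36

open Cfsg QuaternionGroup

theorem five_pow (k : ℕ) : ∃ m, Odd m ∧ 5 ^ (2 ^ k) = 1 + 2 ^ (k + 2) * m := by
  induction k with
  | zero => exact ⟨1, odd_one, by norm_num⟩
  | succ k ih =>
    obtain ⟨m, hm, e⟩ := ih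
    refine ⟨m + 2 ^ (k + 1) * m ^ 2, hm.add_even ?_, ?_⟩
    · exact ((Nat.even_pow.mpr ⟨even_two, by omega⟩)).mul_right _
    · rw [pow_succ 2 k, pow_mul, e]; ring

instance fact_prime_five : Fact (Nat.Prime 5) := ⟨by norm_num⟩

/-- A field of order `5 ^ (2 ^ k)`. -/
abbrev FiveField (k : ℕ) : Type := GaloisField 5 (2 ^ k)

noncomputable instance (k : ℕ) : Fintype (FiveField k) := Fintype.ofFinite _

theorem card_fiveField (k : ℕ) : Fintype.card (FiveField k) = 5 ^ (2 ^ k) := by
  rw [← Nat.card_eq_fintype_card, GaloisField.card 5 _ (Nat.two_pow_pos k).ne']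

theorem exists_dihedral_model {n : ℕ} (hn : 2 ≤ n) :
    ∃ (K : Type) (_ : Field K) (_ : Fintype K), Odd (Fintype.card K) ∧ Fintype.card K % 8 = 1 ∧
      ∃ (T : Sylow 2 (Matrix.ProjectiveSpecialLinearGroup (Fin 2) K))
        (c φ : Matrix.ProjectiveSpecialLinearGroup (Fin 2) K),
        IsCyc (T : Subgroup (Matrix.ProjectiveSpecialLinearGroup (Fin 2) K)) n 0 c φ ∧
        (Cfsg.groupFusionSystem (T : Subgroup (Matrix.ProjectiveSpecialLinearGroup (Fin 2) K))).IsSimple 2 := by
  classical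
  haveI : Fact (Nat.Prime 2) := ⟨Nat.prime_two⟩
  obtain ⟨k, rfl⟩ : ∃ k, n = k + 1 := ⟨n - 1, by omega⟩
  obtain ⟨m, hm, e⟩ := five_pow k
  refine ⟨FiveField k, inferInstance, inferInstance, ?_⟩
  set K := FiveField k
  have hK : Fintype.card K = 1 + 2 ^ (k + 2) * m := by rw [card_fiveField, e]
  obtain ⟨d, hd⟩ : ∃ d, 2 ^ (k + 2) * m = 8 * d :=
    ⟨2 ^ (k - 1) * m, by rw [show k + 2 = k - 1 + 3 by omega, pow_add]; ring⟩
  have hodd : Fintype.card K % 2 = 1 := by omega
  have hsq : Fintype.card K ^ 2 - 1 = 2 ^ (k + 3) * (m * (1 + 4 * d)) := by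
    rw [hK]
    refine Nat.sub_eq_of_eq_add ?_
    rw [pow_succ 2 (k + 2)]
    linear_combination (2 ^ (k + 2) * m) * hd
  have h16 : 16 ∣ Fintype.card K ^ 2 - 1 := by
    rw [hsq]; exact Dvd.dvd.mul_right (pow_dvd_pow 2 (show 4 ≤ k + 3 by omega)) _
  have h8 : Fintype.card K % 8 = 1 := by omega
  refine ⟨Nat.odd_iff.mpr hodd, h8, ?_⟩
  let T : Sylow 2 (Matrix.ProjectiveSpecialLinearGroup (Fin 2) K) := Classical.arbitrary _
  obtain ⟨N, hN0, f, hN3, hf, hker⟩ := Fus93.PSLTwo.exists_quaternion_cover hodd h16 T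
  have hN : Nat.card T = 2 * N := by
    have hc : Nat.card f.ker = 2 := by
      have : (f.ker : Set (QuaternionGroup N)) = {1, a (N : ZMod (2 * N))} := Set.ext fun z => hker z
      rw [show Nat.card f.ker = Set.ncard (f.ker : Set (QuaternionGroup N)) from
        (Nat.card_coe_set_eq _), this, Set.ncard_pair]
      intro q
      rw [one_def, QuaternionGroup.a.injEq, eq_comm, ZMod.natCast_eq_zero_iff] at q
      have := Nat.le_of_dvd (by omega) q
      omega
    have h1 := f.ker.card_eq_card_quotient_mul_card_subgroup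
    rw [Nat.card_congr (QuotientGroup.quotientKerEquivRange f).toEquiv, hc,
      Nat.card_congr (MulEquiv.subgroupCongr hf).toEquiv, Nat.card_eq_fintype_card (α := QuaternionGroup N),
      QuaternionGroup.card] at h1
    omega
  have hT : Nat.card T = 2 ^ (k + 2) := by
    rw [T.card_eq_multiplicity]
    congr 1
    have h1 := LinearGroup.gcd_mul_card_PSL_two (F := K)
    rw [Nat.card_eq_fintype_card (α := K), hsq] at h1
    have hg : Nat.gcd 2 (Fintype.card K - 1) = 2 := Nat.gcd_eq_left (by omega)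
    rw [hg] at h1
    have hne : Nat.card (Matrix.ProjectiveSpecialLinearGroup (Fin 2) K) ≠ 0 := Nat.card_pos.ne'
    have hu : Odd (Fintype.card K * (m * (1 + 4 * d))) :=
      (Nat.odd_iff.mpr hodd).mul (hm.mul (Nat.odd_iff.mpr (by omega)))
    have h2 : Nat.card (Matrix.ProjectiveSpecialLinearGroup (Fin 2) K) =
        2 ^ (k + 2) * (Fintype.card K * (m * (1 + 4 * d))) := by
      refine Nat.eq_of_mul_eq_mul_left two_pos (h1.trans ?_)
      rw [pow_succ 2 (k + 2)]; ring
    rw [h2, Nat.factorization_mul (Nat.two_pow_pos _).ne' hu.pos.ne', Finsupp.add_apply,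
      Nat.factorization_eq_zero_of_not_dvd hu.not_two_dvd_nat, add_zero,
      Nat.prime_two.factorization_pow, Finsupp.single_eq_same]
  have hNk : N = 2 ^ (k + 1) := by
    rw [hN, pow_succ 2 (k + 1)] at hT; omega
  subst hNk
  refine ⟨T, f (a 1), f (xa 0), ?_, Fus93.PSLTwo.isSimple hodd h16 T⟩
  have hmem : ∀ z, f z ∈ (T : Subgroup (Matrix.ProjectiveSpecialLinearGroup (Fin 2) K)) :=
    fun z => hf ▸ ⟨z, rfl⟩
  refine { cS := hmem _, φS := hmem _, ord := ?_, inv := ?_, conj := ?_, not_mem := ?_,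
           card := hT, two := by omega, case := Or.inl rfl }
  · refine orderOf_eq_prime_pow ?_ ?_
    · intro q
      rw [← map_pow, a_one_pow, hker, one_def, QuaternionGroup.a.injEq, QuaternionGroup.a.injEq] at q
      rcases q with q | q
      · rw [ZMod.natCast_eq_zero_iff] at q
        have := Nat.le_of_dvd (Nat.two_pow_pos _) q
        have := pow_succ 2 k
        omega
      · have h1 : ((2 ^ (k + 1) : ℕ) : ZMod (2 * 2 ^ (k + 1))) = ((2 ^ k : ℕ) : ZMod _) := q.symm
        rw [ZMod.natCast_eq_natCast_iff', Nat.mod_eq_of_lt, Nat.mod_eq_of_lt] at h1 <;>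
          (have := pow_succ 2 k; have := Nat.two_pow_pos k; omega)
    · rw [← map_pow, a_one_pow]
      exact (hker _).mpr (Or.inr rfl)
  · rw [← map_mul, ← sq, xa_sq]
    exact (hker _).mpr (Or.inr rfl)
  · rw [Nat.cast_zero, zero_mul, add_zero, zpow_neg, zpow_one, ← map_mul, ← map_mul]
    refine eq_inv_of_mul_eq_one_left ?_
    rw [← map_mul]
    refine (hker _).mpr (Or.inr ?_)
    rw [xa_mul_a, xa_mul_xa, a_mul_a]
    congr 1
    ring
  · rw [← mem_powers_iff_mem_zpowers]
    rintro ⟨j, q⟩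
    change f (a 1) ^ j = f (xa 0) at q
    rw [← map_pow, a_one_pow, ← mul_inv_eq_one, ← map_inv, ← map_mul] at q
    change f (a _ * xa (((2 ^ (k + 1) : ℕ) : ZMod (2 * 2 ^ (k + 1))) + 0)) = 1 at q
    rw [a_mul_xa, hker] at q
    rcases q with q | q
    · rw [one_def] at q; cases q
    · cases q

end Cfsg.Agent.RankTwoReal36
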