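import Cfsg.Agent.RankTwoReal36.Wreath
import Cfsg.Agent.RankTwoReal36.ModelTwo
import Cfsg.Agent.Fus93.RankTwoOdd.Instances
import Mathlib.NumberTheory.LSeries.PrimesInAP

/-!
# Semidihedral and wreathed models in `PSL₃`
-/

set_option autoImplicit false
set_option linter.unusedSectionVars false
set_option linter.style.haveILetI false

namespace Cfsg.Agent.RankTwoReal36

open Cfsg Cfsg.Agent.Fus93.RankTwoOdd Matrix

theorem isCyc_ext {G : Type*} [Group G] [Finite G] [Fact (Nat.Prime 2)] {n : ℕ} (hn : 3 ≤ n)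
    (c φ : G) (hc : orderOf c = 2 ^ n) (hφ : φ * φ = 1)
    (hcφ : φ * c * φ = c ^ (2 ^ (n - 1) - 1))
    (hG : 2 ^ (Nat.card G).factorization 2 = 2 ^ (n + 1)) :
    ∃ T : Sylow 2 G, IsCyc (T : Subgroup G) n 1 c φ := by
  have hφi : φ⁻¹ = φ := inv_eq_of_mul_eq_one_right hφ
  have hinv : ∀ x ∈ Subgroup.zpowers c, φ * x * φ ∈ Subgroup.zpowers c := by
    rintro x ⟨i, rfl⟩
    have e : φ * c ^ i * φ = (φ * c * φ) ^ i := by
      conv_lhs => arg 2; rw [← hφi]
      conv_rhs => arg 1; arg 2; rw [← hφi]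
      exact conj_zpow.symm
    show φ * c ^ i * φ ∈ _
    rw [e, hcφ]
    exact zpow_mem (pow_mem (Subgroup.mem_zpowers c) _) i
  have hN : 2 ^ n = 2 * 2 ^ (n - 1) := by rw [← pow_succ']; congr 1; omega
  have h4 : 4 ≤ 2 ^ (n - 1) :=
    (show 2 ^ 2 ≤ 2 ^ (n - 1) from Nat.pow_le_pow_right (by norm_num) (by omega))
  have hnm : φ ∉ Subgroup.zpowers c := by
    rintro ⟨i, hi⟩
    change c ^ i = φ at hi
    have hcomm : φ * c * φ = c := by
      rw [show φ * c = c * φ from hi ▸ ((Commute.refl c).zpow_left i).eq, mul_assoc, hφ, mul_one]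
    rw [hcφ] at hcomm
    have h1 : c ^ (2 ^ (n - 1) - 2) = 1 := by
      refine mul_right_cancel (b := c) ?_
      rw [one_mul, ← pow_succ, show 2 ^ (n - 1) - 2 + 1 = 2 ^ (n - 1) - 1 by omega, hcomm]
    rw [← orderOf_dvd_iff_pow_eq_one, hc] at h1
    have := Nat.le_of_dvd (by omega) h1
    omega
  have hcard : Nat.card (ext2 (Subgroup.zpowers c) φ hφ hinv) = 2 ^ (n + 1) := by
    rw [card_ext2 hφ hinv hnm, Nat.card_zpowers, hc, pow_succ']
  refine ⟨Sylow.ofCard _ (hcard.trans hG.symm),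
    { cS := Or.inl (Subgroup.mem_zpowers c)
      φS := Or.inr (by rw [hφ]; exact one_mem _)
      ord := hc
      inv := hφ
      conj := ?_
      not_mem := hnm
      card := hcard
      two := by omega
      case := Or.inr ⟨rfl, hn⟩ }⟩
  rw [hcφ, ← zpow_natCast, Nat.cast_sub Nat.one_le_two_pow]
  push_cast
  congr 1; ring

theorem exists_semidihedral_model {n : ℕ} (hn : 3 ≤ n) :
    ∃ (K : Type) (_ : Field K) (_ : Fintype K), Odd (Fintype.card K) ∧
      ∃ (T : Sylow 2 (Matrix.ProjectiveSpecialLinearGroup (Fin 3) K))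
        (c φ : Matrix.ProjectiveSpecialLinearGroup (Fin 3) K),
        IsCyc (T : Subgroup (Matrix.ProjectiveSpecialLinearGroup (Fin 3) K)) n 1 c φ ∧
        (Cfsg.groupFusionSystem (T : Subgroup (Matrix.ProjectiveSpecialLinearGroup (Fin 3) K))).IsSimple 2 := by
  classical
  haveI : Fact (Nat.Prime 2) := ⟨Nat.prime_two⟩
  obtain ⟨k, rfl⟩ : ∃ k, n = k + 1 := ⟨n - 1, by omega⟩
  have hk : 2 ≤ k := by omega
  have h4 : 4 ≤ 2 ^ k := (show 2 ^ 2 ≤ 2 ^ k from Nat.pow_le_pow_right (by norm_num) hk)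
  obtain ⟨p, hp2, hp, hmod⟩ := Nat.forall_exists_prime_gt_and_modEq 2
    (q := 2 ^ (k + 1)) (a := 2 ^ k - 1) (Nat.two_pow_pos _).ne'
    (Nat.Coprime.pow_right _ (Nat.coprime_two_right.mpr
      (Nat.odd_iff.mpr (by obtain ⟨j, rfl⟩ := Nat.exists_eq_add_of_le hk; rw [pow_add] at h4 ⊢; omega))))
  haveI : Fact p.Prime := ⟨hp⟩
  refine ⟨ZMod p, inferInstance, inferInstance, ?_⟩
  set F := ZMod p
  have hq : Fintype.card F = p := ZMod.card p
  obtain ⟨o₂, ho₂, hko⟩ : ∃ o₂, Odd o₂ ∧ Fintype.card F + 1 = 2 ^ k * o₂ := by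
    rw [hq]
    have h1 : p % 2 ^ (k + 1) = 2 ^ k - 1 := by
      have := pow_succ 2 k
      have e : p % 2 ^ (k + 1) = (2 ^ k - 1) % 2 ^ (k + 1) := hmod
      rw [e, Nat.mod_eq_of_lt]; omega
    refine ⟨2 * (p / 2 ^ (k + 1)) + 1, odd_two_mul_add_one _, ?_⟩
    have h2 := Nat.div_add_mod p (2 ^ (k + 1))
    rw [h1] at h2
    have := pow_succ 2 k
    have e : 2 ^ (k + 1) * (p / 2 ^ (k + 1)) + 2 ^ k = 2 ^ k * (2 * (p / 2 ^ (k + 1)) + 1) := by ring
    omega
  have h3 : Fintype.card F % 4 = 3 := by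
    have : 4 ∣ Fintype.card F + 1 :=
      hko ▸ Dvd.dvd.mul_right (pow_dvd_pow 2 hk : 2 ^ 2 ∣ 2 ^ k) _
    omega
  have hodd : Fintype.card F % 2 = 1 := by omega
  have h2 := two_ne_zero_of_odd hodd
  let π : SL3 F →* Matrix.ProjectiveSpecialLinearGroup (Fin 3) F :=
    QuotientGroup.mk' (Subgroup.center (SL3 F))
  have hker : ∀ x, π x = 1 → Odd (orderOf x) := by
    intro x hx
    exact (odd_gcd_three _).of_dvd_nat (orderOf_dvd_center ((QuotientGroup.eq_one_iff _).mp hx)
      (by rw [LinearGroup.card_center_SL, Fintype.card_fin]))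
  set o₁ := (Fintype.card F - 1) / 2 with ho1d
  have ho₁ : Odd o₁ := Nat.odd_iff.mpr (by omega)
  have hq1 : Fintype.card F - 1 = 2 * o₁ := by omega
  haveI : Fact (∀ r : F, r ^ 2 ≠ -1 + 0 * r) := ⟨fun r hr => by
    rw [zero_mul, add_zero] at hr
    exact FiniteField.isSquare_neg_one_iff.mp ⟨r, by rw [← hr, sq]⟩ h3⟩
  letI : Fintype (QA F) := Fintype.ofEquiv (F × F) (QuadraticAlgebra.equivProd (-1 : F) 0).symm
  have hcard : Nat.card (QA F)ˣ = 2 ^ (k + 1) * (o₁ * o₂) := by
    rw [Nat.card_units, Nat.card_congr (QuadraticAlgebra.equivProd (-1 : F) 0), Nat.card_prod,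
      Nat.card_eq_fintype_card]
    obtain ⟨r, hr⟩ : ∃ r, Fintype.card F = r + 1 := ⟨Fintype.card F - 1, by omega⟩
    rw [hr, ← sq, sq_sub_one]
    rw [hr] at hq1 hko
    rw [show r + 2 = r + 1 + 1 by rfl, hko, show r = 2 * o₁ by omega]
    ring
  obtain ⟨g, u, hg, hgu, hu, hgen⟩ := exists_orderOf_of_dvd (K := QA F) (d := 2 ^ (k + 1))
    (hcard ▸ dvd_mul_right _ _)
  let N : (QA F)ˣ →* Fˣ := Units.map (QuadraticAlgebra.norm (a := (-1 : F)) (b := 0))
  have hNu : (N u : F) = -1 := by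
    have hsq : (N u) ^ 2 = 1 := by
      have e1 : (N u) ^ (2 ^ (k + 1)) = 1 := by rw [← map_pow, ← hu, pow_orderOf_eq_one, map_one]
      have e2 : (N u) ^ (2 * o₁) = 1 := by
        rw [← hq1, ← Nat.card_eq_fintype_card, ← Nat.card_units, pow_card_eq_one']
      have e3 := pow_gcd_eq_one.mpr ⟨e1, e2⟩
      rw [pow_succ', Nat.gcd_mul_left, Nat.Coprime.gcd_eq_one
        ((Nat.coprime_two_left.mpr ho₁).pow_left k), mul_one] at e3
      exact e3
    rcases sq_eq_one_iff.mp (show ((N u : F)) ^ 2 = 1 by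
      rw [← Units.val_pow_eq_pow_val, hsq, Units.val_one]) with h | h
    · exfalso
      obtain ⟨y₁, y₂, hy⟩ := FiniteField.exists_root_sum_quadratic
        (f := (Polynomial.X ^ 2 + Polynomial.C (1 : F))) (g := (Polynomial.X ^ 2))
        (Polynomial.degree_X_pow_add_C (by norm_num) 1) (Polynomial.degree_X_pow 2)
        hodd
      simp at hy
      have hny : QuadraticAlgebra.norm (⟨y₁, y₂⟩ : QA F) = -1 := by
        rw [norm_eq]; linear_combination hy
      have hy0 : (⟨y₁, y₂⟩ : QA F) ≠ 0 := by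
        intro e
        rw [e, norm_eq] at hny
        simp at hny
      obtain ⟨j, hj⟩ := hgen (Units.mk0 _ hy0)
      have hj' : (N g) ^ j = -1 := by
        rw [← map_zpow, show g ^ j = _ from hj]
        exact Units.ext hny
      have hNu1 : N g ^ (o₁ * o₂) = 1 := by
        have : N u = 1 := Units.ext h
        rw [hgu, map_pow, hcard, Nat.mul_div_cancel_left _ (Nat.two_pow_pos _)] at this
        exact this
      have : ((-1 : Fˣ)) ^ (o₁ * o₂) = 1 := by
        rw [← hj', ← zpow_natCast, ← _root_.zpow_mul, mul_comm, _root_.zpow_mul, zpow_natCast, hNu1, _root_.one_zpow]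
      rw [(ho₁.mul ho₂).neg_one_pow] at this
      have := congrArg Units.val this
      rw [Units.val_neg, Units.val_one] at this
      exact h2 (by linear_combination -this)
    · exact h
  have hnu : (u : QA F).re * (u : QA F).re + (u : QA F).im * (u : QA F).im = -1 := by
    rw [← norm_eq]; exact hNu
  -- the value of the central power
  set z : QA F := ((u ^ (2 ^ k) : (QA F)ˣ) : QA F) with hzdef
  have hz : z.re = -1 ∧ z.im = 0 := by
    have hzz : z * z = 1 := by
      rw [hzdef, ← Units.val_mul, ← pow_add, ← two_mul, ← pow_succ', ← hu, pow_orderOf_eq_one,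
        Units.val_one]
    have hz1 : z ≠ 1 := by
      intro h
      have h' : u ^ (2 ^ k) = 1 := Units.ext h
      rw [← orderOf_dvd_iff_pow_eq_one, hu] at h'
      have := Nat.le_of_dvd (Nat.two_pow_pos _) h'
      have := pow_succ 2 k
      omega
    have hzn : z.re * z.re + z.im * z.im = 1 := by
      rw [← norm_eq, hzdef, Units.val_pow_eq_pow_val, map_pow, norm_eq, hnu,
        Even.neg_one_pow (Nat.even_pow.mpr ⟨even_two, by omega⟩)]
    have e1 := congrArg QuadraticAlgebra.re hzz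
    simp [QuadraticAlgebra.re_one] at e1
    have him : z.im = 0 := by
      have : (2 : F) * (z.im * z.im) = 0 := by linear_combination hzn - e1
      simpa [h2] using this
    have hre : z.re ^ 2 = 1 := by rw [sq]; simpa [him] using hzn
    rcases sq_eq_one_iff.mp hre with h | h
    · exact absurd (QuadraticAlgebra.ext h him) hz1
    · exact ⟨h, him⟩
  have hCo : orderOf (rot u) = 2 ^ (k + 1) := (orderOf_injective rot rot_injective u).trans hu
  have hc' : orderOf (π (rot u)) = 2 ^ (k + 1) := by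
    refine Nat.dvd_antisymm (hCo ▸ orderOf_map_dvd π (rot u)) ?_
    rw [← hCo, orderOf_dvd_iff_pow_eq_one]
    refine eq_one_of_map π hker (k := k + 1) ?_ ?_
    · rw [← pow_mul, mul_comm, pow_mul, ← hCo, pow_orderOf_eq_one, one_pow]
    · rw [map_pow, pow_orderOf_eq_one]
  have hconj : π fEl * π (rot u) * π fEl = π (rot u) ^ (2 ^ (k + 1 - 1) - 1) := by
    rw [show k + 1 - 1 = k from rfl, ← map_mul, ← map_mul, ← map_pow]
    refine congrArg π (mul_right_cancel (b := rot u) ?_)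
    rw [← pow_succ, Nat.sub_add_cancel Nat.one_le_two_pow, ← map_pow]
    exact fEl_rot u _ hz hnu
  have hφ : π fEl * π fEl = 1 := by rw [← map_mul, fEl_sq, map_one]
  obtain ⟨T, hT⟩ := isCyc_ext (n := k + 1) hn (π (rot u)) (π fEl) hc' hφ hconj
    (psl_two_part hodd (o := o₁ * o₁ * o₂) (k := k + 1 + 1) ((ho₁.mul ho₁).mul ho₂)
      (by rw [hq1, hko]; ring))
  exact ⟨Nat.odd_iff.mpr hodd, T, _, _, hT, Fus93.RankTwoOdd.psl_isSimple hodd T⟩

theorem exists_wreathed_model {n : ℕ} (hn : 2 ≤ n) :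
    ∃ (K : Type) (_ : Field K) (_ : Fintype K), Odd (Fintype.card K) ∧
      ∃ (T : Sylow 2 (Matrix.ProjectiveSpecialLinearGroup (Fin 3) K))
        (c₁ c₂ w : Matrix.ProjectiveSpecialLinearGroup (Fin 3) K),
        IsWr (T : Subgroup (Matrix.ProjectiveSpecialLinearGroup (Fin 3) K)) n c₁ c₂ w ∧
        (Cfsg.groupFusionSystem (T : Subgroup (Matrix.ProjectiveSpecialLinearGroup (Fin 3) K))).IsSimple 2 := by
  classical
  haveI : Fact (Nat.Prime 2) := ⟨Nat.prime_two⟩
  obtain ⟨k, rfl⟩ : ∃ k, n = k + 2 := ⟨n - 2, by omega⟩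
  obtain ⟨m, hm, e⟩ := five_pow k
  refine ⟨FiveField k, inferInstance, inferInstance, ?_⟩
  set F := FiveField k
  have hq : Fintype.card F = 1 + 2 ^ (k + 2) * m := by rw [card_fiveField, e]
  obtain ⟨d, hd⟩ : ∃ d, 2 ^ (k + 2) * m = 4 * d := ⟨2 ^ k * m, by rw [pow_add]; ring⟩
  have hodd : Fintype.card F % 2 = 1 := by omega
  have h2 := two_ne_zero_of_odd hodd
  let π : SL3 F →* Matrix.ProjectiveSpecialLinearGroup (Fin 3) F :=
    QuotientGroup.mk' (Subgroup.center (SL3 F))
  have hker : ∀ x, π x = 1 → Odd (orderOf x) := by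
    intro x hx
    exact (odd_gcd_three _).of_dvd_nat (orderOf_dvd_center ((QuotientGroup.eq_one_iff _).mp hx)
      (by rw [LinearGroup.card_center_SL, Fintype.card_fin]))
  have hcard : Nat.card Fˣ = 2 ^ (k + 2) * m := by
    rw [Nat.card_units, Nat.card_eq_fintype_card, hq]; omega
  obtain ⟨-, a, -, -, ha, -⟩ := exists_orderOf_of_dvd (K := F) (d := 2 ^ (k + 2))
    (hcard ▸ dvd_mul_right _ _)
  set A := Subgroup.zpowers a
  let f : A × A →* Matrix.ProjectiveSpecialLinearGroup (Fin 3) F :=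
    π.comp (dg.comp (A.subtype.prodMap A.subtype))
  have hpow : ∀ p : A × A, p ^ (2 ^ (k + 2)) = 1 := fun p => Prod.ext
    (Subtype.ext (orderOf_dvd_iff_pow_eq_one.mp (ha ▸ orderOf_dvd_of_mem_zpowers p.1.2)))
    (Subtype.ext (orderOf_dvd_iff_pow_eq_one.mp (ha ▸ orderOf_dvd_of_mem_zpowers p.2.2)))
  have hfi : Function.Injective f := by
    refine (injective_iff_map_eq_one f).mpr fun p hp' => ?_
    have h1 := eq_one_of_map π hker (k := k + 2) (x := dg ((p.1 : Fˣ), (p.2 : Fˣ))) (by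
      rw [← map_pow, Prod.pow_mk]
      have := congrArg (fun q : A × A => ((q.1 : Fˣ), (q.2 : Fˣ))) (hpow p)
      simp at this
      rw [this.1, this.2, ← Prod.one_eq_mk, map_one]) hp'
    have := dg_injective (h1.trans (map_one dg).symm)
    simp at this
    exact Prod.ext this.1 this.2
  let α : A := ⟨a, Subgroup.mem_zpowers a⟩
  set W := π wEl
  have hW : W * W = 1 := by rw [← map_mul, wEl_sq, map_one]
  have hconj : ∀ x y : A, W * f (x, y) * W = f (y, x) := fun x y => by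
    show π wEl * π (dg ((x : Fˣ), (y : Fˣ))) * π wEl = π (dg ((y : Fˣ), (x : Fˣ)))
    rw [← map_mul, ← map_mul, wEl_dg]
  have hinv : ∀ v ∈ f.range, W * v * W ∈ f.range := by
    rintro v ⟨⟨x, y⟩, rfl⟩
    exact ⟨(y, x), (hconj x y).symm⟩
  have hα : α ≠ 1 := fun q => by
    have : a = 1 := congrArg Subtype.val q
    rw [this, orderOf_one] at ha
    have := Nat.one_lt_two_pow (show k + 2 ≠ 0 by omega)
    omega
  have hWn : W ∉ f.range := by
    rintro ⟨p, hp⟩
    have h1 := hconj α 1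
    rw [← hp, ← map_mul, ← map_mul] at h1
    have h3 := hfi h1
    have h4 : (p * (α, 1) * p).2 = α := congrArg Prod.snd h3
    have h5 : p * p = 1 := hfi (by rw [map_mul, hp, hW, map_one])
    rw [mul_comm p, mul_assoc, h5, mul_one] at h4
    exact hα h4.symm
  have hA : Nat.card (f.range) = 2 ^ (k + 2) * 2 ^ (k + 2) := by
    rw [← Nat.card_congr (MonoidHom.ofInjective hfi).toEquiv, Nat.card_prod, Nat.card_zpowers, ha]
  have hS : Nat.card (ext2 f.range W hW hinv) = 2 ^ (2 * (k + 2) + 1) := by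
    rw [card_ext2 hW hinv hWn, hA]; ring
  have hG := psl_two_part hodd (o := m * m * ((Fintype.card F + 1) / 2)) (k := 2 * (k + 2) + 1)
    ((hm.mul hm).mul (Nat.odd_iff.mpr (by omega))) (by
      conv_lhs => arg 2; rw [show Fintype.card F + 1 = 2 * ((Fintype.card F + 1) / 2) by omega]
      rw [show Fintype.card F - 1 = 2 ^ (k + 2) * m by omega]
      ring)
  let T := Sylow.ofCard (ext2 f.range W hW hinv) (hS.trans hG.symm)
  refine ⟨Nat.odd_iff.mpr hodd, T, f (α, 1), f (1, α), W, ?_, Fus93.RankTwoOdd.psl_isSimple hodd T⟩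
  refine { c₁S := Or.inl ⟨_, rfl⟩, c₂S := Or.inl ⟨_, rfl⟩, wS := Or.inr (by rw [hW]; exact one_mem _),
           ord := ?_, comm := (Commute.all (α, (1 : A)) (1, α)).map f, inv := hW, swap := hconj α 1,
           ind := ?_, card := hS, two := hn }
  · rw [orderOf_injective f hfi, Prod.orderOf_mk, orderOf_one, Nat.lcm_one_right,
      Subgroup.orderOf_mk, ha]
  · intro i j h
    rw [← map_zpow, ← map_zpow, ← map_mul, map_eq_one_iff f hfi] at h
    simp only [Prod.pow_mk, _root_.one_zpow, Prod.mk_mul_mk, one_mul, mul_one, Prod.mk_eq_one] at h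
    rw [← map_zpow, Prod.pow_mk, _root_.one_zpow, h.1, ← Prod.one_eq_mk, map_one]

end Cfsg.Agent.RankTwoReal36
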