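import Cfsg.Agent.RankTwoReal36.Iso
import Cfsg.Agent.TwoRankTwo36.FusionUnique
import Cfsg.Prelude.Def_CaseTheorems
import Mathlib.GroupTheory.SpecificGroups.Dihedral

/-!
# Coordinates from the shape of the group, and the central involution of a simple system
-/

set_option autoImplicit false
set_option linter.unusedSectionVars false
set_option linter.style.haveILetI false

namespace Cfsg.Agent.RankTwoReal36

open Cfsg Cfsg.Agent.Fusion
open Cfsg.Agent.TwoRankTwo36 (list_of_rank_two not_prankLE_one_of_atLeast exists_central_involution)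

variable {Ω : Type*} [Group Ω] {S : Subgroup Ω} [Finite S]

theorem isCyc_of_dihedral (hS : IsPGroup 2 S) {m : ℕ} (hm : 2 ≤ m) (e : S ≃* DihedralGroup m)
    (h4 : m ≠ 2) : ∃ (n : ℕ) (c φ : Ω), IsCyc S n 0 c φ := by
  haveI : Fact (Nat.Prime 2) := ⟨Nat.prime_two⟩
  obtain ⟨k, hk⟩ := IsPGroup.iff_card.mp hS
  rw [Nat.card_congr e.toEquiv, DihedralGroup.nat_card] at hk
  obtain ⟨n, rfl⟩ : ∃ n, k = n + 1 := ⟨k - 1, by rcases k with _ | k <;> simp at hk ⊢⟩
  obtain rfl : m = 2 ^ n := by rw [pow_succ] at hk; omega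
  have hn : 2 ≤ n := by
    rcases n with _ | _ | n
    · norm_num at hm
    · norm_num at h4
    · omega
  have hce : ∀ x, ((e.symm x : S) : Ω) = (S.subtype.comp e.symm.toMonoidHom) x := fun x => rfl
  refine ⟨n, (e.symm (DihedralGroup.r 1) : S), (e.symm (DihedralGroup.sr 0) : S),
    { cS := (e.symm _).2
      φS := (e.symm _).2
      ord := ?_
      inv := ?_
      conj := ?_
      not_mem := ?_
      card := ?_
      two := hn
      case := Or.inl rfl }⟩
  · rw [Subgroup.orderOf_coe, MulEquiv.orderOf_eq, DihedralGroup.orderOf_r_one]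
  · rw [hce, ← map_mul, DihedralGroup.sr_mul_self, map_one]
  · rw [Nat.cast_zero, zero_mul, add_zero, zpow_neg, zpow_one, hce, hce, ← map_mul, ← map_mul,
      ← map_inv]
    congr 1
    simp [DihedralGroup.sr_mul_r, DihedralGroup.sr_mul_sr]
  · rintro ⟨i, hi⟩
    change ((e.symm (DihedralGroup.r 1) : S) : Ω) ^ i = _ at hi
    rw [hce, hce, ← map_zpow] at hi
    have := (Subgroup.subtype_injective S).comp e.symm.injective hi
    rw [DihedralGroup.r_one_zpow] at this
    cases this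
  · rw [Nat.card_congr e.toEquiv, DihedralGroup.nat_card, pow_succ']

theorem isCyc_of_qd (h : Cfsg.IsQuasiDihedral S) : ∃ (n : ℕ) (c φ : Ω), 3 ≤ n ∧ IsCyc S n 1 c φ := by
  obtain ⟨n, hn, hcard, x, y, hx, hy, hxy⟩ := h
  have hy' : (y : Ω) * y = 1 := by
    have := pow_orderOf_eq_one y
    rw [hy, pow_two] at this
    exact congrArg Subtype.val this
  have hyi : (y : Ω)⁻¹ = y := inv_eq_of_mul_eq_one_right hy'
  have hxy' : (y : Ω) * x * y = (x : Ω) ^ (2 ^ (n - 1) - 1) := by
    have := congrArg Subtype.val hxy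
    simp only [Subgroup.coe_mul, Subgroup.coe_inv, SubmonoidClass.coe_pow, hyi] at this
    exact this
  have h4 : 4 ≤ 2 ^ (n - 1) :=
    (show 2 ^ 2 ≤ 2 ^ (n - 1) from Nat.pow_le_pow_right (by norm_num) (by omega))
  have hox : orderOf (x : Ω) = 2 ^ n := by rw [Subgroup.orderOf_coe, hx]
  refine ⟨n, x, y, hn,
    { cS := x.2
      φS := y.2
      ord := hox
      inv := hy'
      conj := ?_
      not_mem := ?_
      card := hcard
      two := by omega
      case := Or.inr ⟨rfl, hn⟩ }⟩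
  · rw [hxy', ← zpow_natCast, Nat.cast_sub Nat.one_le_two_pow]
    push_cast
    congr 1; ring
  · rintro ⟨i, hi⟩
    change (x : Ω) ^ i = (y : Ω) at hi
    have hcomm : (y : Ω) * x * y = x := by
      rw [show (y : Ω) * x = x * y from hi ▸ ((Commute.refl (x : Ω)).zpow_left i).eq, mul_assoc, hy',
        mul_one]
    rw [hxy'] at hcomm
    have h1 : (x : Ω) ^ (2 ^ (n - 1) - 2) = 1 := by
      refine mul_right_cancel (b := (x : Ω)) ?_
      rw [one_mul, ← pow_succ, show 2 ^ (n - 1) - 2 + 1 = 2 ^ (n - 1) - 1 by omega, hcomm]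
    rw [← orderOf_dvd_iff_pow_eq_one, hox] at h1
    have := Nat.le_of_dvd (by omega) h1
    have : 2 ^ n = 2 * 2 ^ (n - 1) := by rw [← pow_succ']; congr 1; omega
    omega

theorem isWr_of_wreathed (h : Cfsg.IsWreathed S) : ∃ (n : ℕ) (c₁ c₂ w : Ω), IsWr S n c₁ c₂ w := by
  obtain ⟨n, hn, hcard, x, y, z, hx, hxy, hd, hz, hzx⟩ := h
  have hz' : (z : Ω) * z = 1 := by
    have := pow_orderOf_eq_one z
    rw [hz, pow_two] at this
    exact congrArg Subtype.val this
  refine ⟨n, x, y, z,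
    { c₁S := x.2
      c₂S := y.2
      wS := z.2
      ord := by rw [Subgroup.orderOf_coe, hx]
      comm := congrArg Subtype.val hxy
      inv := hz'
      swap := ?_
      ind := ?_
      card := hcard
      two := hn }⟩
  · have := congrArg Subtype.val hzx
    simp only [Subgroup.coe_mul, Subgroup.coe_inv, inv_eq_of_mul_eq_one_right hz'] at this
    exact this
  · intro i j q
    have q' : x ^ i * y ^ j = 1 := Subtype.ext (by simpa using q)
    have h1 : x ^ i ∈ Subgroup.zpowers x ⊓ Subgroup.zpowers y :=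
      ⟨zpow_mem (Subgroup.mem_zpowers x) i, by
        rw [eq_inv_of_mul_eq_one_left q']
        exact (Subgroup.zpowers y).inv_mem ((Subgroup.zpowers y).zpow_mem (Subgroup.mem_zpowers y) j)⟩
    rw [hd, Subgroup.mem_bot] at h1
    simpa using congrArg Subtype.val h1

/-- A simple system on a group of rank two has a unique central involution in its group and trivial centre. -/
theorem central_unique {F : FusionSystem S} (hS : IsPGroup 2 S) (hs : F.IsSimple 2)
    (h2 : Cfsg.PRankLE 2 2 S) (hr : Cfsg.PRankAtLeast 2 2 S) {z : Ω} (hzS : z ∈ S) (hz2 : z * z = 1)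
    (hz1 : z ≠ 1) (hzc : ∀ s ∈ S, s * z = z * s) :
    F.center = ⊥ ∧ ∀ x ∈ S, x * x = 1 → (∀ s ∈ S, s * x = x * s) → x = 1 ∨ x = z := by
  haveI : Fact (Nat.Prime 2) := ⟨Nat.prime_two⟩
  have hex : ∃ M : Subgroup Ω, M ≤ S ∧ (M.subgroupOf S).Normal ∧ M ≠ S ∧ M ≠ ⊥ := by
    refine ⟨Subgroup.zpowers z, Subgroup.zpowers_le.mpr hzS, ⟨fun x hx g => ?_⟩, fun q => ?_, ?_⟩
    · obtain ⟨i, hi⟩ := hx
      change z ^ i = (x : Ω) at hi
      refine ⟨i, ?_⟩
      show z ^ i = (g : Ω) * (x : Ω) * (g : Ω)⁻¹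
      rw [← hi, ((Commute.zpow_right (show Commute (g : Ω) z from hzc g g.2) i)).eq,
        mul_inv_cancel_right]
    · refine not_prankLE_one_of_atLeast hr fun A _ _ => ?_
      rw [pow_one]
      refine (Subgroup.card_le_card_group A).trans ?_
      rw [← q, Nat.card_zpowers]
      exact orderOf_le_of_pow_eq_one two_pos (by rw [pow_two, hz2])
    · rw [Ne, Subgroup.zpowers_eq_bot]; exact hz1
  refine ⟨center_eq_bot hS hs hex, ?_⟩
  by_contra! hu
  obtain ⟨w, hwS, hw2, hwc, hw1, hwz⟩ := hu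
  have hlist : ∀ x ∈ S, x * x = 1 → x = 1 ∨ x = z ∨ x = w ∨ x = z * w := fun x hx hxx =>
    list_of_rank_two h2 hzS hwS hx hz2 hw2 hxx (hwc z hzS) (hzc x hx) (hwc x hx) hz1 hw1
      (Ne.symm hwz)
  have hcen : ∀ x ∈ S, x * x = 1 → ∀ s ∈ S, s * x = x * s := by
    intro x hx hxx s hs'
    rcases hlist x hx hxx with rfl | rfl | rfl | rfl
    · simp
    · exact hzc s hs'
    · exact hwc s hs'
    · exact (Commute.mul_right (hzc s hs') (hwc s hs')).eq
  let T : Subgroup Ω :=
    { carrier := {x | x ∈ S ∧ x * x = 1}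
      one_mem' := ⟨S.one_mem, one_mul 1⟩
      mul_mem' := fun {a b} ha hb => ⟨S.mul_mem ha.1 hb.1, by
        rw [Commute.mul_mul_mul_comm (show Commute b a from hcen a ha.1 ha.2 b hb.1), ha.2, hb.2, one_mul]⟩
      inv_mem' := fun {a} ha => ⟨S.inv_mem ha.1, by rw [← mul_inv_rev, ha.2, inv_one]⟩ }
  have hT : F.IsNormal T := by
    refine Fusion.isNormal_of_abelian hS hs.1 (stronglyClosed_iff.mpr ⟨fun x hx => hx.1, ?_⟩) ?_
    · rintro R f hf x hxR ⟨-, hxx⟩
      exact ⟨hf.apply_mem hxR, by rw [← hf.map_mul hxR hxR, hxx, hf.map_one]⟩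
    · exact fun x hx y hy => hcen y hy.1 hy.2 x hx.1
  have hzT : z ∈ T := ⟨hzS, hz2⟩
  rw [normal_eq_bot hS hs hex hT, Subgroup.mem_bot] at hzT
  exact hz1 hzT

end Cfsg.Agent.RankTwoReal36
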