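import Cfsg.Agent.RankTwoReal36.Cyc

/-!
# Wreathed groups: coordinates, subgroups and frames
-/

set_option autoImplicit false
set_option linter.unusedSectionVars false
set_option linter.style.haveILetI false

namespace Cfsg.Agent.RankTwoReal36

open Cfsg Cfsg.Agent.Fusion
open Cfsg.FusionSystem (normalizerIn centralizerIn)

variable {Ω : Type*} [Group Ω]

theorem index_two_normal {S M : Subgroup Ω} (hM : M ≤ S)
    (h2 : ∀ s ∈ S, ∀ t ∈ S, s ∉ M → t ∉ M → s * t ∈ M) :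
    (∀ g ∈ S, ∀ x ∈ M, g * x * g⁻¹ ∈ M) ∧ ∀ g ∈ S, ∀ x ∈ S, x⁻¹ * (g * x * g⁻¹) ∈ M := by
  have hn : ∀ g ∈ S, ∀ x ∈ M, g * x * g⁻¹ ∈ M := by
    intro g hg x hx
    by_cases hgM : g ∈ M
    · exact mul_mem (mul_mem hgM hx) (inv_mem hgM)
    refine h2 _ (S.mul_mem hg (hM hx)) _ (S.inv_mem hg) (fun q => hgM ?_) (fun q => hgM ?_)
    · simpa using mul_mem q (inv_mem hx)
    · simpa using inv_mem q
  refine ⟨hn, fun g hg x hx => ?_⟩
  by_cases hxM : x ∈ M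
  · exact mul_mem (inv_mem hxM) (hn g hg x hxM)
  refine h2 _ (S.inv_mem hx) _ (S.mul_mem (S.mul_mem hg hx) (S.inv_mem hg))
    (fun q => hxM (by simpa using inv_mem q)) fun q => hxM ?_
  have := hn g⁻¹ (S.inv_mem hg) _ q
  simpa [mul_assoc] using this

theorem Frame.four_le {P Z : Subgroup Ω} [Finite P] {k : ℕ} (f : Frame P Z k) :
    4 * Nat.card Z ≤ Nat.card P := by
  haveI : Finite Z := Fusion.finite_of_le f.le
  let g : Option (Fin 3) × Z → P := fun p =>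
    match p.1 with
    | none => ⟨p.2, f.le p.2.2⟩
    | some i => ⟨f.y i * p.2, P.mul_mem (f.mem i) (f.le p.2.2)⟩
  have hg : Function.Injective g := by
    rintro ⟨a, s⟩ ⟨b, t⟩ q
    have q' := congrArg Subtype.val q
    rcases a with _ | i <;> rcases b with _ | j <;> simp only [g] at q'
    · exact Prod.ext rfl (Subtype.ext q')
    · refine absurd ?_ (f.not_mem j)
      rw [show f.y j = (s : Ω) * (t : Ω)⁻¹ by rw [q', mul_inv_cancel_right]]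
      exact Z.mul_mem s.2 (Z.inv_mem t.2)
    · refine absurd ?_ (f.not_mem i)
      rw [show f.y i = (t : Ω) * (s : Ω)⁻¹ by rw [← q', mul_inv_cancel_right]]
      exact Z.mul_mem t.2 (Z.inv_mem s.2)
    · have hij : i = j := f.sep i j (by
        have : (f.y i)⁻¹ * f.y j = (s : Ω) * (t : Ω)⁻¹ := by
          rw [inv_mul_eq_iff_eq_mul, ← mul_assoc, q', mul_inv_cancel_right]
        rw [this]; exact Z.mul_mem s.2 (Z.inv_mem t.2))
      subst hij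
      exact Prod.ext rfl (Subtype.ext (mul_left_cancel q'))
  have := Nat.card_le_card_of_injective g hg
  simpa [Nat.card_prod] using this

/-- Coordinates on a wreathed group. -/
structure IsWr (S : Subgroup Ω) (n : ℕ) (c₁ c₂ w : Ω) : Prop where
  c₁S : c₁ ∈ S
  c₂S : c₂ ∈ S
  wS : w ∈ S
  ord : orderOf c₁ = 2 ^ n
  comm : Commute c₁ c₂
  inv : w * w = 1
  swap : w * c₁ * w = c₂
  ind : ∀ i j : ℤ, c₁ ^ i * c₂ ^ j = 1 → c₁ ^ i = 1
  card : Nat.card S = 2 ^ (2 * n + 1)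
  two : 2 ≤ n

namespace IsWr

variable {S : Subgroup Ω} [Finite S] {n : ℕ} {c₁ c₂ w : Ω} (h : IsWr S n c₁ c₂ w)
include h

local notation "bb" => fun (i j : ℤ) => c₁ ^ i * c₂ ^ j

theorem pow_h : (2 : ℤ) ^ n = 2 * 2 ^ (n - 1) := by
  rw [← pow_succ', Nat.sub_add_cancel (by linarith [h.two] : 1 ≤ n)]

theorem h_even : (2 : ℤ) ^ (n - 1) = 2 * 2 ^ (n - 2) := by
  rw [← pow_succ']; congr 1; have := h.two; omega

theorem winv : w⁻¹ = w := inv_eq_of_mul_eq_one_right h.inv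

theorem swap' : w * c₂ * w = c₁ := by
  rw [← h.swap, ← mul_assoc, ← mul_assoc, h.inv, one_mul, mul_assoc, h.inv, mul_one]

theorem zone₁ {i : ℤ} : c₁ ^ i = 1 ↔ (2 : ℤ) ^ n ∣ i := by
  rw [← orderOf_dvd_iff_zpow_eq_one, h.ord]
  push_cast
  exact Iff.rfl

theorem ord₂ : orderOf c₂ = 2 ^ n := by
  rw [← h.swap, ← h.ord]
  conv_lhs => arg 1; arg 2; rw [← h.winv]
  exact orderOf_injective (MulAut.conj w).toMonoidHom (MulAut.conj w).injective c₁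

theorem zone₂ {i : ℤ} : c₂ ^ i = 1 ↔ (2 : ℤ) ^ n ∣ i := by
  rw [← orderOf_dvd_iff_zpow_eq_one, h.ord₂]
  push_cast
  exact Iff.rfl

theorem bone {i j : ℤ} : bb i j = 1 ↔ (2 : ℤ) ^ n ∣ i ∧ (2 : ℤ) ^ n ∣ j := by
  constructor
  · intro q
    have h1 := h.ind i j q
    simp only [h1, one_mul] at q
    exact ⟨h.zone₁.mp h1, h.zone₂.mp q⟩
  · rintro ⟨hi, hj⟩
    simp only [h.zone₁.mpr hi, h.zone₂.mpr hj, one_mul]

theorem mul_bb (i j i' j' : ℤ) : bb i j * bb i' j' = bb (i + i') (j + j') := by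
  show c₁ ^ i * c₂ ^ j * (c₁ ^ i' * c₂ ^ j') = c₁ ^ (i + i') * c₂ ^ (j + j')
  rw [mul_assoc, ← mul_assoc (c₂ ^ j), ← (h.comm.zpow_zpow i' j).eq, zpow_add, zpow_add]
  simp only [mul_assoc]

theorem zero_bb : bb 0 0 = 1 := by simp

theorem inv_bb (i j : ℤ) : (bb i j)⁻¹ = bb (-i) (-j) := by
  refine inv_eq_of_mul_eq_one_right ?_
  rw [h.mul_bb]; simp

theorem beq {i j i' j' : ℤ} : bb i j = bb i' j' ↔ (2 : ℤ) ^ n ∣ i - i' ∧ (2 : ℤ) ^ n ∣ j - j' := by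
  rw [← h.bone, ← mul_inv_eq_one, h.inv_bb, h.mul_bb, ← sub_eq_add_neg, ← sub_eq_add_neg]

theorem wb (i j : ℤ) : w * bb i j = bb j i * w := by
  have e1 : ∀ k : ℤ, w * c₁ ^ k = c₂ ^ k * w := fun k => by
    rw [← h.swap]
    conv_rhs => arg 1; arg 1; arg 2; rw [← h.winv]
    rw [conj_zpow, inv_mul_cancel_right]
  have e2 : ∀ k : ℤ, w * c₂ ^ k = c₁ ^ k * w := fun k => by
    rw [← h.swap']
    conv_rhs => arg 1; arg 1; arg 2; rw [← h.winv]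
    rw [conj_zpow, inv_mul_cancel_right]
  show w * (c₁ ^ i * c₂ ^ j) = c₁ ^ j * c₂ ^ i * w
  rw [← mul_assoc, e1, mul_assoc, e2, ← mul_assoc, (h.comm.zpow_zpow j i).eq]

theorem b_bw (i j i' j' : ℤ) : bb i j * (bb i' j' * w) = bb (i + i') (j + j') * w := by
  rw [← mul_assoc, h.mul_bb]

theorem bw_b (i j i' j' : ℤ) : bb i j * w * bb i' j' = bb (i + j') (j + i') * w := by
  rw [mul_assoc, h.wb, h.b_bw]

theorem bw_bw (i j i' j' : ℤ) : bb i j * w * (bb i' j' * w) = bb (i + j') (j + i') := by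
  rw [← mul_assoc, h.bw_b, mul_assoc, h.inv, mul_one]

theorem inv_bw (i j : ℤ) : (bb i j * w)⁻¹ = bb (-j) (-i) * w := by
  refine inv_eq_of_mul_eq_one_right ?_
  rw [h.bw_bw]; simp

theorem cross {i j i' j' : ℤ} : bb i j ≠ bb i' j' * w := by
  intro q
  have hw : w = bb (-i' + i) (-j' + j) := by
    rw [← h.mul_bb, ← h.inv_bb, q, inv_mul_cancel_left]
  have e : w * c₁ * w = c₁ := by
    have hc : Commute w c₁ := by
      rw [hw]; exact ((Commute.refl c₁).zpow_left _).mul_left (h.comm.symm.zpow_left _)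
    rw [hc.eq, mul_assoc, h.inv, mul_one]
  rw [h.swap] at e
  have h1 : bb (-1) 1 = 1 := by simp [e]
  have h2 := Int.le_of_dvd (by norm_num) (h.bone.mp h1).2
  have : (2 : ℤ) ^ 2 ≤ 2 ^ n := pow_le_pow_right₀ (by norm_num) h.two
  omega

theorem bb_mem (i j : ℤ) : bb i j ∈ S ∧ bb i j * w ∈ S :=
  ⟨S.mul_mem (zpow_mem h.c₁S i) (zpow_mem h.c₂S j),
    S.mul_mem (S.mul_mem (zpow_mem h.c₁S i) (zpow_mem h.c₂S j)) h.wS⟩

/-- The homocyclic maximal subgroup. -/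
def B : Subgroup Ω where
  carrier := {x | ∃ i j : ℤ, x = bb i j}
  one_mem' := ⟨0, 0, h.zero_bb.symm⟩
  mul_mem' := by
    rintro x y ⟨i, j, rfl⟩ ⟨i', j', rfl⟩
    exact ⟨i + i', j + j', h.mul_bb i j i' j'⟩
  inv_mem' := by
    rintro x ⟨i, j, rfl⟩
    exact ⟨-i, -j, h.inv_bb i j⟩

theorem B_le : h.B ≤ S := by rintro x ⟨i, j, rfl⟩; exact (h.bb_mem i j).1

theorem mem_S {x : Ω} (hx : x ∈ S) : ∃ i j : ℤ, x = bb i j ∨ x = bb i j * w := by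
  have hinv : ∀ a ∈ h.B, w * a * w ∈ h.B := by
    rintro a ⟨i, j, rfl⟩
    exact ⟨j, i, by rw [h.wb, mul_assoc, h.inv, mul_one]⟩
  haveI := Fusion.finite_of_le h.B_le
  set D := Fus93.RankTwoOdd.ext2 h.B w h.inv hinv with hD
  have hDS : D ≤ S := by
    rintro y (hy | hy)
    · exact h.B_le hy
    · have := S.mul_mem (h.B_le hy) h.wS
      rwa [mul_assoc, h.inv, mul_one] at this
  haveI := Fusion.finite_of_le hDS
  have hB : 2 ^ (2 * n) ≤ Nat.card h.B := by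
    let f : Fin (2 ^ n) × Fin (2 ^ n) → h.B := fun p => ⟨bb (p.1 : ℕ) (p.2 : ℕ), _, _, rfl⟩
    have hf : Function.Injective f := by
      intro p q e
      obtain ⟨d1, d2⟩ := h.beq.mp (congrArg Subtype.val e)
      have key : ∀ a b : Fin (2 ^ n), (2 : ℤ) ^ n ∣ ((a : ℕ) : ℤ) - ((b : ℕ) : ℤ) → a = b := by
        intro a b hd
        have hz : ((a : ℕ) : ℤ) - ((b : ℕ) : ℤ) = 0 := by
          refine Int.eq_zero_of_abs_lt_dvd hd ?_
          have ha : ((a : ℕ) : ℤ) < 2 ^ n := by exact_mod_cast a.2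
          have hb : ((b : ℕ) : ℤ) < 2 ^ n := by exact_mod_cast b.2
          exact abs_lt.mpr ⟨by omega, by omega⟩
        exact Fin.ext (by omega)
      exact Prod.ext (key _ _ d1) (key _ _ d2)
    have := Nat.card_le_card_of_injective f hf
    simpa [← pow_add, two_mul] using this
  have hD2 : 2 * Nat.card h.B ≤ Nat.card D := by
    let g : Bool × h.B → D := fun p =>
      if p.1 then ⟨p.2 * w, Or.inr (by rw [mul_assoc, h.inv, mul_one]; exact p.2.2)⟩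
      else ⟨p.2, Or.inl p.2.2⟩
    have hg : Function.Injective g := by
      rintro ⟨a, x⟩ ⟨b, y⟩ q
      obtain ⟨i, j, hi⟩ := x.2
      obtain ⟨i', j', hi'⟩ := y.2
      cases a <;> cases b <;> simp [g] at q
      all_goals have q' := congrArg Subtype.val q
      · exact Prod.ext rfl (Subtype.ext q')
      · exact absurd (hi.symm.trans (q'.trans (congrArg (· * w) hi'))) h.cross
      · exact absurd (hi'.symm.trans (q'.symm.trans (congrArg (· * w) hi))) h.cross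
      · exact Prod.ext rfl (Subtype.ext (mul_right_cancel q'))
    have := Nat.card_le_card_of_injective g hg
    simpa [Nat.card_prod] using this
  have hx' : x ∈ D := (Subgroup.eq_of_le_of_card_ge hDS (by rw [h.card, pow_succ]; omega)).ge hx
  rcases hx' with ⟨i, j, hi⟩ | ⟨i, j, hi⟩
  · exact ⟨i, j, Or.inl hi⟩
  · refine ⟨i, j, Or.inr ?_⟩
    rw [← hi, mul_assoc, h.inv, mul_one]

/-- The elements `bb i j` with `k ∣ i - j` and `bb i j * w` with `k ∣ i - j - u`. -/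
def pat (k u : ℤ) : Subgroup Ω where
  carrier := {x | ∃ i j : ℤ, (x = bb i j ∧ k ∣ i - j) ∨ (x = bb i j * w ∧ k ∣ i - j - u)}
  one_mem' := ⟨0, 0, Or.inl ⟨h.zero_bb.symm, by simp⟩⟩
  mul_mem' := by
    rintro x y ⟨i, j, ⟨rfl, hi⟩ | ⟨rfl, hi⟩⟩ ⟨i', j', ⟨rfl, hi'⟩ | ⟨rfl, hi'⟩⟩
    · exact ⟨_, _, Or.inl ⟨h.mul_bb i j i' j', (dvd_add hi hi').trans (dvd_of_eq (by ring))⟩⟩
    · exact ⟨_, _, Or.inr ⟨h.b_bw i j i' j', (dvd_add hi hi').trans (dvd_of_eq (by ring))⟩⟩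
    · exact ⟨_, _, Or.inr ⟨h.bw_b i j i' j', (dvd_sub hi hi').trans (dvd_of_eq (by ring))⟩⟩
    · exact ⟨_, _, Or.inl ⟨h.bw_bw i j i' j', (dvd_sub hi hi').trans (dvd_of_eq (by ring))⟩⟩
  inv_mem' := by
    rintro x ⟨i, j, ⟨rfl, hi⟩ | ⟨rfl, hi⟩⟩
    · exact ⟨_, _, Or.inl ⟨h.inv_bb i j, (hi.neg_right).trans (dvd_of_eq (by ring))⟩⟩
    · exact ⟨_, _, Or.inr ⟨h.inv_bw i j, (hi).trans (dvd_of_eq (by ring))⟩⟩

theorem pat_le (k u : ℤ) : h.pat k u ≤ S := by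
  rintro x ⟨i, j, ⟨rfl, -⟩ | ⟨rfl, -⟩⟩
  exacts [(h.bb_mem i j).1, (h.bb_mem i j).2]

theorem bb_mem_pat {k u i j : ℤ} : bb i j ∈ h.pat k u ↔ ∃ i' j', bb i j = bb i' j' ∧ k ∣ i' - j' := by
  constructor
  · rintro ⟨i', j', ⟨q, hd⟩ | ⟨q, -⟩⟩
    · exact ⟨i', j', q, hd⟩
    · exact absurd q h.cross
  · rintro ⟨i', j', q, hd⟩
    exact ⟨i', j', Or.inl ⟨q, hd⟩⟩

theorem pat_two {s t : Ω} (hs : s ∈ S) (ht : t ∈ S) (hs' : s ∉ h.pat 2 0) (ht' : t ∉ h.pat 2 0) :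
    s * t ∈ h.pat 2 0 := by
  obtain ⟨i, j, rfl | rfl⟩ := h.mem_S hs <;> obtain ⟨i', j', rfl | rfl⟩ := h.mem_S ht
  all_goals
    have a1 := fun q => hs' ⟨i, j, q⟩
    have a2 := fun q => ht' ⟨i', j', q⟩
    simp only [true_and, imp_false, not_or, not_and] at a1 a2
  · exact ⟨_, _, Or.inl ⟨h.mul_bb i j i' j', by omega⟩⟩
  · exact ⟨_, _, Or.inr ⟨h.b_bw i j i' j', by omega⟩⟩
  · exact ⟨_, _, Or.inr ⟨h.bw_b i j i' j', by omega⟩⟩
  · exact ⟨_, _, Or.inl ⟨h.bw_bw i j i' j', by omega⟩⟩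

theorem B_two {s t : Ω} (hs : s ∈ S) (ht : t ∈ S) (hs' : s ∉ h.B) (ht' : t ∉ h.B) : s * t ∈ h.B := by
  obtain ⟨i, j, rfl | rfl⟩ := h.mem_S hs
  · exact absurd ⟨i, j, rfl⟩ hs'
  obtain ⟨i', j', rfl | rfl⟩ := h.mem_S ht
  · exact absurd ⟨i', j', rfl⟩ ht'
  exact ⟨_, _, h.bw_bw i j i' j'⟩

theorem B_ne : h.B ≠ S := fun q => by
  obtain ⟨i, j, hw⟩ := q.ge h.wS
  have : bb i j = bb 0 0 * w := by rw [h.zero_bb, one_mul]; exact hw.symm
  exact h.cross this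

theorem c1_notin : bb 1 0 ∉ h.pat 2 0 := by
  rw [h.bb_mem_pat]
  rintro ⟨i, j, q, hd⟩
  obtain ⟨d1, d2⟩ := h.beq.mp q
  rw [h.pow_h] at d1 d2
  have := (dvd_mul_right (2 : ℤ) _).trans d1
  have := (dvd_mul_right (2 : ℤ) _).trans d2
  omega

theorem pat_ne : h.pat 2 0 ≠ S := fun q => h.c1_notin (q.ge (h.bb_mem 1 0).1)

theorem B_ne_bot : h.B ≠ ⊥ := fun q => by
  have : bb 1 1 ∈ h.B := ⟨1, 1, rfl⟩
  rw [q, Subgroup.mem_bot] at this
  have h1 := Int.le_of_dvd (by norm_num) (h.bone.mp this).1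
  have : (2 : ℤ) ^ 2 ≤ 2 ^ n := pow_le_pow_right₀ (by norm_num) h.two
  omega

theorem pat_ne_bot : h.pat 2 0 ≠ ⊥ := fun q => by
  have : bb 1 1 ∈ h.pat 2 0 := ⟨1, 1, Or.inl ⟨rfl, by simp⟩⟩
  rw [q, Subgroup.mem_bot] at this
  have h1 := Int.le_of_dvd (by norm_num) (h.bone.mp this).1
  have : (2 : ℤ) ^ 2 ≤ 2 ^ n := pow_le_pow_right₀ (by norm_num) h.two
  omega

/-- The centre. -/
def Z (_h : IsWr S n c₁ c₂ w) : Subgroup Ω := Subgroup.zpowers (bb 1 1)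

theorem zpow_u (k : ℤ) : (bb 1 1) ^ k = bb k k := by
  show (c₁ ^ (1 : ℤ) * c₂ ^ (1 : ℤ)) ^ k = c₁ ^ k * c₂ ^ k
  rw [zpow_one, zpow_one, h.comm.mul_zpow]

theorem mem_Z {x : Ω} : x ∈ h.Z ↔ ∃ k : ℤ, x = bb k k := by
  rw [Z, Subgroup.mem_zpowers_iff]
  constructor <;> rintro ⟨k, hk⟩
  · exact ⟨k, by rw [← hk, h.zpow_u]⟩
  · exact ⟨k, by rw [h.zpow_u, hk]⟩

theorem bb_mem_Z {i j : ℤ} : bb i j ∈ h.Z ↔ (2 : ℤ) ^ n ∣ i - j := by
  rw [h.mem_Z]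
  constructor
  · rintro ⟨k, q⟩
    obtain ⟨d1, d2⟩ := h.beq.mp q
    have := dvd_sub d1 d2
    simpa using this
  · intro hd
    exact ⟨j, h.beq.mpr ⟨hd, by simp⟩⟩

theorem Z_le : h.Z ≤ S := Subgroup.zpowers_le.mpr (h.bb_mem 1 1).1

theorem Z_central : ∀ s ∈ S, ∀ t ∈ h.Z, s * t = t * s := by
  intro s hs t ht
  obtain ⟨k, rfl⟩ := h.mem_Z.mp ht
  obtain ⟨i, j, rfl | rfl⟩ := h.mem_S hs
  · rw [h.mul_bb, h.mul_bb, add_comm i k, add_comm j k]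
  · rw [h.bw_b, h.b_bw, add_comm i k, add_comm j k]

theorem Z_le_pat (k u : ℤ) : h.Z ≤ h.pat k u := by
  intro x hx
  obtain ⟨i, rfl⟩ := h.mem_Z.mp hx
  exact ⟨i, i, Or.inl ⟨rfl, by simp⟩⟩

theorem center_char {k u : ℤ} (hk : ¬ (2 : ℤ) ^ n ∣ k) {x : Ω} (hx : x ∈ h.pat k u)
    (hc : ∀ y ∈ h.pat k u, y * x = x * y) : x ∈ h.Z := by
  obtain ⟨i, j, ⟨rfl, -⟩ | ⟨rfl, -⟩⟩ := hx
  · have h1 := hc (bb u 0 * w) ⟨u, 0, Or.inr ⟨rfl, by simp⟩⟩
    rw [h.bw_b, h.b_bw, mul_left_inj, h.beq] at h1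
    rw [h.bb_mem_Z]
    have := h1.2
    exact this.trans (dvd_of_eq (by ring))
  · exfalso
    have h1 := hc (bb k 0) ⟨k, 0, Or.inl ⟨rfl, by simp⟩⟩
    rw [h.b_bw, h.bw_b, mul_left_inj, h.beq] at h1
    refine hk ?_
    have := h1.1
    exact this.trans (dvd_of_eq (by ring))

theorem Z_inv {k u : ℤ} (hk : ¬ (2 : ℤ) ^ n ∣ k) (α : MulAut (h.pat k u)) (x : h.pat k u)
    (hx : (x : Ω) ∈ h.Z) : ((α x : h.pat k u) : Ω) ∈ h.Z := by
  refine h.center_char hk (α x).2 fun y hy => ?_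
  obtain ⟨v, hv⟩ := α.surjective ⟨y, hy⟩
  have : v * x = x * v := Subtype.ext (h.Z_central v (h.pat_le k u v.2) x hx)
  have h2 := congrArg (fun z => ((α z : h.pat k u) : Ω)) this
  simp only [map_mul, hv] at h2
  exact h2

theorem invol_B {x : Ω} (hx : x ∈ h.B) (hxx : x * x = 1) :
    x = 1 ∨ x = bb (2 ^ (n - 1)) 0 ∨ x = bb 0 (2 ^ (n - 1)) ∨ x = bb (2 ^ (n - 1)) (2 ^ (n - 1)) := by
  obtain ⟨i, j, rfl⟩ := hx
  rw [h.mul_bb, h.bone, h.pow_h, ← two_mul, ← two_mul] at hxx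
  obtain ⟨a, rfl⟩ := (mul_dvd_mul_iff_left (two_ne_zero' ℤ)).mp hxx.1
  obtain ⟨b, rfl⟩ := (mul_dvd_mul_iff_left (two_ne_zero' ℤ)).mp hxx.2
  have he : ∀ a : ℤ, (2 : ℤ) ^ n ∣ 2 ^ (n - 1) * (2 * a) - 0 := fun a => ⟨a, by rw [h.pow_h]; ring⟩
  have ho : ∀ a : ℤ, (2 : ℤ) ^ n ∣ 2 ^ (n - 1) * (2 * a + 1) - 2 ^ (n - 1) :=
    fun a => ⟨a, by rw [h.pow_h]; ring⟩
  rcases Int.even_or_odd' a with ⟨a', rfl | rfl⟩ <;> rcases Int.even_or_odd' b with ⟨b', rfl | rfl⟩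
  · left; rw [← h.zero_bb, h.beq]; exact ⟨he a', he b'⟩
  · right; right; left; rw [h.beq]; exact ⟨he a', ho b'⟩
  · right; left; rw [h.beq]; exact ⟨ho a', he b'⟩
  · right; right; right; rw [h.beq]; exact ⟨ho a', ho b'⟩

theorem not_dvd_h : ¬ (2 : ℤ) ^ n ∣ 2 ^ (n - 1) := by
  intro q
  have := Int.le_of_dvd (by positivity) q
  rw [h.pow_h] at this
  have : (0 : ℤ) < 2 ^ (n - 1) := by positivity
  omega

/-- The frame of a candidate. -/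
noncomputable def frame (t : ℤ) : Frame (h.pat (2 ^ (n - 1)) (2 * t)) h.Z 2 := by
  have hN := h.pow_h
  have hh := h.h_even
  have hout : ∀ i j, bb i j * w ∉ h.Z := fun i j q => by
    obtain ⟨k, hk⟩ := h.mem_Z.mp q
    exact h.cross hk.symm
  refine frameOf (bb (2 ^ (n - 1)) 0) (bb t (-t) * w)
    (bb (2 ^ (n - 1) + 2 ^ (n - 2) + t) (2 ^ (n - 2) - t) * w) 1 (h.Z_le_pat _ _)
    ⟨_, _, Or.inl ⟨rfl, by simp⟩⟩
    ⟨_, _, Or.inr ⟨rfl, ⟨0, by ring⟩⟩⟩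
    ⟨_, _, Or.inr ⟨rfl, ⟨1, by ring⟩⟩⟩
    ?_ ?_ ?_ (one_mem _) (fun v hv s hs => h.Z_central v (h.pat_le _ _ hv) s hs)
    ?_ (hout _ _) (hout _ _) ?_ ?_ ?_ ?_ ?_ ?_ (Fusion.finite_of_le h.Z_le)
  · rw [h.mul_bb, h.bone, hN, add_zero, two_mul]; exact ⟨dvd_rfl, dvd_zero _⟩
  · rw [h.bw_bw]; simp
  · rw [h.bw_bw, h.bone, hN, hh]; constructor <;> exact ⟨1, by ring⟩
  · rw [h.bb_mem_Z, sub_zero]; exact h.not_dvd_h
  · rw [h.inv_bb, h.b_bw]; exact hout _ _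
  · rw [h.inv_bb, h.b_bw]; exact hout _ _
  · rw [h.inv_bw, h.bw_bw, h.bb_mem_Z]
    intro q
    refine h.not_dvd_h ?_
    have := q.neg_right
    exact this.trans (dvd_of_eq (by ring))
  · rintro v ⟨i, j, ⟨rfl, a, ha⟩ | ⟨rfl, a, ha⟩⟩ <;>
      rcases Int.even_or_odd' a with ⟨d, rfl | rfl⟩
    · exact Or.inl (h.bb_mem_Z.mpr ⟨d, by rw [ha, hN]; ring⟩)
    · refine Or.inr (Or.inl ?_)
      rw [h.inv_bb, h.mul_bb, h.bb_mem_Z]
      exact ⟨d, by rw [hN]; linear_combination ha⟩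
    · refine Or.inr (Or.inr (Or.inl ?_))
      rw [h.inv_bw, h.bw_bw, h.bb_mem_Z]
      exact ⟨-d, by rw [hN]; linear_combination -ha⟩
    · refine Or.inr (Or.inr (Or.inr ?_))
      rw [h.inv_bw, h.bw_bw, h.bb_mem_Z]
      exact ⟨-d, by rw [hN]; linear_combination -ha⟩
  · intro K hZK h0 h1 v hv
    have hpow : ∀ a : ℤ, bb (2 ^ (n - 1) * a) 0 ∈ K := fun a => by
      have := zpow_mem h0 a
      simp only [zpow_zero, mul_one] at this ⊢
      rwa [zpow_mul]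
    have hd : ∀ k : ℤ, bb k k ∈ K := fun k => hZK (h.mem_Z.mpr ⟨k, rfl⟩)
    obtain ⟨i, j, ⟨rfl, a, ha⟩ | ⟨rfl, a, ha⟩⟩ := hv
    · have := K.mul_mem (hpow a) (hd j)
      rwa [h.mul_bb, show 2 ^ (n - 1) * a + j = i by linear_combination -ha, zero_add] at this
    · have := K.mul_mem (K.mul_mem (hpow a) (hd (j + t))) h1
      rwa [h.mul_bb, h.b_bw, show 2 ^ (n - 1) * a + (j + t) + t = i by linear_combination -ha,
        show 0 + (j + t) + -t = j by ring] at this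
  · have hz : ∀ t ∈ h.Z, t * t = 1 → t = 1 ∨ t = bb (2 ^ (n - 1)) (2 ^ (n - 1)) := by
      intro t ht htt
      obtain ⟨k, rfl⟩ := h.mem_Z.mp ht
      rcases h.invol_B ⟨k, k, rfl⟩ htt with q | q | q | q
      · exact Or.inl q
      · exfalso
        rw [h.beq] at q
        have := dvd_sub q.1 q.2
        exact h.not_dvd_h ((this.neg_right).trans (dvd_of_eq (by ring)))
      · exfalso
        rw [h.beq] at q
        have := dvd_sub q.1 q.2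
        exact h.not_dvd_h ((this).trans (dvd_of_eq (by ring)))
      · exact Or.inr q
    classical
    let f : {x : Ω // x ∈ h.Z ∧ x * x = 1} → Bool := fun x => decide (x.1 = 1)
    have hf : Function.Injective f := by
      intro x y q
      simp only [f, decide_eq_decide] at q
      refine Subtype.ext ?_
      rcases hz x.1 x.2.1 x.2.2 with a | a <;> rcases hz y.1 y.2.1 y.2.2 with b | b
      · rw [a, b]
      · rw [a, q.mp a]
      · rw [b, q.mpr b]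
      · rw [a, b]
    exact (Nat.card_le_card_of_injective f hf).trans (by simp)

end IsWr

end Cfsg.Agent.RankTwoReal36
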