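import Cfsg.Agent.RankTwoReal36.Wreath
import Mathlib.Algebra.Ring.GeomSum

/-!
# The simple system on a wreathed group is unique up to coordinates
-/

set_option autoImplicit false
set_option linter.unusedSectionVars false
set_option linter.style.haveILetI false

namespace Cfsg.Agent.RankTwoReal36

open Cfsg Cfsg.Agent.Fusion
open Cfsg.FusionSystem (normalizerIn centralizerIn)

variable {Ω : Type*} [Group Ω]

theorem odd_sum_pow {s : ℤ} (hs : Odd s) (m : ℕ) (hm : Odd m) :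
    Odd (∑ i ∈ Finset.range m, s ^ i) := by
  have key : ∀ k : ℕ, (2 : ℤ) ∣ (∑ i ∈ Finset.range k, s ^ i) - k := by
    intro k
    induction k with
    | zero => simp
    | succ k ih =>
      obtain ⟨a, ha⟩ := hs.pow (n := k)
      rw [Finset.sum_range_succ, ha]
      push_cast
      omega
  obtain ⟨b, rfl⟩ := hm
  have := key (2 * b + 1)
  push_cast at this
  rw [Int.odd_iff]
  omega

namespace IsWr

variable {S : Subgroup Ω} [Finite S] {n : ℕ} {c₁ c₂ w : Ω} (h : IsWr S n c₁ c₂ w)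
include h

local notation "bb" => fun (i j : ℤ) => c₁ ^ i * c₂ ^ j

theorem isPGroup : IsPGroup 2 S := IsPGroup.of_card h.card

/-- Automorphisms of odd order of the patterns other than the candidates are trivial. -/
theorem trivial_of_char {k : ℕ} (hk : k < n) {u : ℤ} (α : MulAut (h.pat (2 ^ k) u))
    (hodd : Odd (orderOf α)) (a₀ : h.pat (2 ^ k) u) (ha₀ : (a₀ : Ω) = bb (2 ^ k) 0)
    (hin : ((α a₀ : h.pat (2 ^ k) u) : Ω) ∈ h.B) : α = 1 := by
  classical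
  haveI : Fact (Nat.Prime 2) := ⟨Nat.prime_two⟩
  have hPS : (h.pat (2 ^ k) u) ≤ S := h.pat_le _ _
  haveI := Fusion.finite_of_le hPS
  have hPp : IsPGroup 2 (h.pat (2 ^ k) u) := h.isPGroup.of_injective _ (Subgroup.inclusion_injective hPS)
  have hknd : ¬ (2 : ℤ) ^ n ∣ 2 ^ k := by
    intro q
    have := Int.le_of_dvd (by positivity) q
    have : (2 : ℤ) ^ k < 2 ^ n := pow_lt_pow_right₀ (by norm_num) hk
    omega
  haveI : Finite h.Z := Fusion.finite_of_le h.Z_le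
  haveI : IsCyclic h.Z := by unfold IsWr.Z; infer_instance
  have hfixZ : ∀ x : (h.pat (2 ^ k) u), (x : Ω) ∈ h.Z → α x = x := by
    intro x hx
    obtain ⟨δ, hδ, hδd⟩ := Fus93.exists_restrict α (h.Z.subgroupOf (h.pat (2 ^ k) u)) fun v hv =>
      h.Z_inv hknd α v hv
    let ez := Subgroup.subgroupOfEquivOfLe (h.Z_le_pat (2 ^ k) u)
    haveI : IsCyclic (h.Z.subgroupOf (h.pat (2 ^ k) u)) := ez.isCyclic.mpr inferInstance
    have := eq_one_of_cyclic (hPp.to_subgroup _) δ (hodd.of_dvd_nat hδd)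
    have h1 := hδ ⟨x, hx⟩
    rw [this] at h1
    exact h1.symm
  obtain ⟨i, j, hij⟩ := hin
  obtain ⟨i', j', q, hd⟩ := h.bb_mem_pat.mp (show bb i j ∈ (h.pat (2 ^ k) u) from hij ▸ (α a₀).2)
  obtain ⟨s, hs⟩ := hd
  have hzm : ∀ l : ℤ, bb l l ∈ (h.pat (2 ^ k) u) := fun l => h.Z_le_pat _ _ (h.mem_Z.mpr ⟨l, rfl⟩)
  let z₀ : (h.pat (2 ^ k) u) := ⟨bb j' j', hzm j'⟩
  have hstep : α a₀ = a₀ ^ s * z₀ := by
    refine Subtype.ext ?_
    rw [Subgroup.coe_mul, Subgroup.coe_zpow, ha₀, hij, q]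
    show _ = (c₁ ^ ((2 : ℤ) ^ k) * c₂ ^ (0 : ℤ)) ^ s * _
    rw [zpow_zero, mul_one, ← zpow_mul]
    show c₁ ^ i' * c₂ ^ j' = c₁ ^ _ * (c₁ ^ j' * c₂ ^ j')
    rw [← mul_assoc, ← zpow_add, show 2 ^ k * s + j' = i' by linear_combination -hs]
  have hzfix : α z₀ = z₀ := hfixZ z₀ (h.mem_Z.mpr ⟨j', rfl⟩)
  have hiter : ∀ m : ℕ, ∃ y : (h.pat (2 ^ k) u), (y : Ω) ∈ h.Z ∧ (α ^ m) a₀ = a₀ ^ (s ^ m) * y := by
    intro m
    induction m with
    | zero => exact ⟨1, one_mem _, by simp⟩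
    | succ m ih =>
      obtain ⟨y, hy, e⟩ := ih
      refine ⟨z₀ ^ (s ^ m) * y, ?_, ?_⟩
      · rw [Subgroup.coe_mul, Subgroup.coe_zpow]
        exact h.Z.mul_mem (zpow_mem (h.mem_Z.mpr ⟨j', rfl⟩) _) hy
      · rw [pow_succ', MulAut.mul_apply, e, map_mul, map_zpow, hstep, hfixZ y hy,
          Commute.mul_zpow (show Commute (a₀ ^ s) z₀ from Subtype.ext
            (h.Z_central _ (hPS (a₀ ^ s).2) _ (h.mem_Z.mpr ⟨j', rfl⟩))),
          ← zpow_mul, ← pow_succ', mul_assoc]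
  obtain ⟨y, hy, e⟩ := hiter (orderOf α)
  rw [pow_orderOf_eq_one, MulAut.one_apply] at e
  have hmem : bb (2 ^ k * (s ^ orderOf α - 1)) 0 ∈ h.Z := by
    have e1 : (a₀ : Ω) = (a₀ : Ω) ^ (s ^ orderOf α) * (y : Ω) := by
      conv_lhs => rw [e]
      rw [Subgroup.coe_mul, Subgroup.coe_zpow]
    have e2 : (a₀ : Ω) ^ (s ^ orderOf α - 1) = (y : Ω)⁻¹ := by
      rw [sub_eq_add_neg, add_comm, zpow_add, zpow_neg_one, inv_mul_eq_iff_eq_mul, eq_mul_inv_iff_mul_eq]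
      exact e1.symm
    rw [ha₀] at e2
    simp only [zpow_zero, mul_one, ← zpow_mul] at e2 ⊢
    rw [e2]
    exact h.Z.inv_mem hy
  rw [h.bb_mem_Z, sub_zero] at hmem
  have hm : (2 : ℤ) ^ (n - k) ∣ s ^ orderOf α - 1 := by
    rw [show (2 : ℤ) ^ n = 2 ^ k * 2 ^ (n - k) by rw [← pow_add]; congr 1; omega] at hmem
    exact (mul_dvd_mul_iff_left (pow_ne_zero _ (two_ne_zero' ℤ))).mp hmem
  have hs1 : (2 : ℤ) ^ (n - k) ∣ s - 1 := by
    have hsodd : Odd s := by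
      rcases Int.even_or_odd s with hev | q'
      · exfalso
        have := (dvd_pow_self (2 : ℤ) (by omega : n - k ≠ 0)).trans hm
        have h2 : Even (s ^ orderOf α) := hev.pow_of_ne_zero hodd.pos.ne'
        obtain ⟨d, hd'⟩ := h2
        omega
      · exact q'
    rw [← geom_sum_mul] at hm
    refine (Int.isCoprime_iff_gcd_eq_one.mpr ?_).dvd_of_dvd_mul_left hm
    obtain ⟨d, hd'⟩ := odd_sum_pow hsodd _ hodd
    rw [hd']
    refine Int.isCoprime_iff_gcd_eq_one.mp (IsCoprime.pow_left ?_)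
    exact ⟨-d, 1, by ring⟩
  have hdisp : (((a₀⁻¹ * α a₀ : (h.pat (2 ^ k) u))) : Ω) ∈ h.Z := by
    obtain ⟨d, hd'⟩ := hs1
    rw [Subgroup.coe_mul, Subgroup.coe_inv, ha₀, hij, q, h.inv_bb, h.mul_bb, h.bb_mem_Z]
    exact ⟨d, by rw [show (2 : ℤ) ^ n = 2 ^ k * 2 ^ (n - k) by rw [← pow_add]; congr 1; omega]; linear_combination hs + (2 : ℤ) ^ k * hd'⟩
  have hcop := Nat.coprime_two_right.mpr hodd
  have ha₀fix : α a₀ = a₀ := Fus93.eq_self_of_fixed hPp hcop a₀ (hfixZ _ hdisp)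
  have hfixB : ∀ x : (h.pat (2 ^ k) u), (x : Ω) ∈ h.B → α x = x := by
    rintro x ⟨a, b, hx⟩
    obtain ⟨a', b', q', hd'⟩ := h.bb_mem_pat.mp (show bb a b ∈ (h.pat (2 ^ k) u) from hx ▸ x.2)
    obtain ⟨l, hl⟩ := hd'
    have : x = a₀ ^ l * ⟨bb b' b', hzm b'⟩ := by
      refine Subtype.ext ?_
      rw [Subgroup.coe_mul, Subgroup.coe_zpow, ha₀, hx, q']
      show _ = (c₁ ^ ((2 : ℤ) ^ k) * c₂ ^ (0 : ℤ)) ^ l * (c₁ ^ b' * c₂ ^ b')
      rw [zpow_zero, mul_one, ← zpow_mul, ← mul_assoc, ← zpow_add,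
        show 2 ^ k * l + b' = a' by linear_combination -hl]
    rw [this, map_mul, map_zpow, ha₀fix, hfixZ _ (h.mem_Z.mpr ⟨b', rfl⟩)]
  refine MulEquiv.ext fun v => ?_
  by_cases hv : (v : Ω) ∈ h.B
  · exact hfixB v hv
  refine Fus93.eq_self_of_fixed hPp hcop v (hfixB _ ?_)
  rw [Subgroup.coe_mul, Subgroup.coe_inv]
  refine h.B_two (S.inv_mem (hPS v.2)) (hPS (α v).2) (fun q' => hv (by simpa using h.B.inv_mem q'))
    fun q' => hv ?_
  have := α.injective (hfixB _ q')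
  rw [this] at q'
  exact q'

/-- Subgroups containing the centre and their centralizer with an automorphism of odd order are candidates. -/
theorem classify {P : Subgroup Ω} (hP : P ≤ S)
    (hC : ∀ x ∈ S, (∀ y ∈ P, y * x = x * y) → x ∈ P) {α : MulAut P} (hα : α ≠ 1)
    (hodd : Odd (orderOf α)) : P = h.B ∨ ∃ t : ℤ, P = h.pat (2 ^ (n - 1)) (2 * t) := by
  classical
  haveI : Fact (Nat.Prime 2) := ⟨Nat.prime_two⟩
  haveI := Fusion.finite_of_le hP
  have hZP : h.Z ≤ P := fun x hx => hC x (h.Z_le hx) fun y hy => h.Z_central y (hP hy) x hx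
  by_cases hPB : P ≤ h.B
  · refine Or.inl (le_antisymm hPB ?_)
    rintro x ⟨i, j, rfl⟩
    refine hC _ (h.bb_mem i j).1 fun y hy => ?_
    obtain ⟨i', j', rfl⟩ := hPB hy
    rw [h.mul_bb, h.mul_bb, add_comm i', add_comm j']
  refine Or.inr ?_
  obtain ⟨x, hxP, hxB⟩ := SetLike.not_le_iff_exists.mp hPB
  obtain ⟨a, a', rfl | rfl⟩ := h.mem_S (hP hxP)
  · exact absurd ⟨a, a', rfl⟩ hxB
  have hzP : ∀ l : ℤ, bb l l ∈ P := fun l => hZP (h.mem_Z.mpr ⟨l, rfl⟩)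
  have hex : ∃ m : ℕ, 0 < m ∧ bb (m : ℤ) 0 ∈ P :=
    ⟨2 ^ n, Nat.two_pow_pos n, by
      rw [h.bone.mpr ⟨by push_cast; exact dvd_rfl, dvd_zero _⟩]; exact one_mem _⟩
  obtain ⟨g, ⟨hg0, hgP⟩, hmin⟩ : ∃ g : ℕ, (0 < g ∧ bb (g : ℤ) 0 ∈ P) ∧
      ∀ m : ℕ, m < g → ¬ (0 < m ∧ bb (m : ℤ) 0 ∈ P) :=
    ⟨Nat.find hex, Nat.find_spec hex, fun m hm => Nat.find_min hex hm⟩
  have hmul : ∀ l m : ℤ, bb l 0 ∈ P → bb (l * m) 0 ∈ P := fun l m hl => by
    have := zpow_mem hl m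
    simp only [zpow_zero, mul_one] at this ⊢
    rwa [zpow_mul]
  have hdvd : ∀ l : ℤ, bb l 0 ∈ P → (g : ℤ) ∣ l := by
    intro l hl
    by_contra hnd
    have hg' : (0 : ℤ) < g := by exact_mod_cast hg0
    have h0 := Int.emod_nonneg l hg'.ne'
    have h1 := Int.emod_lt_of_pos l hg'
    have h2 : l % g ≠ 0 := fun q => hnd (Int.dvd_of_emod_eq_zero q)
    refine hmin (l % g).toNat (by omega) ⟨by omega, ?_⟩
    rw [Int.toNat_of_nonneg h0]
    have := P.mul_mem hl (P.inv_mem (hmul g (l / g) hgP))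
    rwa [h.inv_bb, h.mul_bb, ← sub_eq_add_neg, ← Int.emod_def, neg_zero, add_zero] at this
  obtain ⟨k, hkn, rfl⟩ : ∃ k ≤ n, g = 2 ^ k := (Nat.dvd_prime_pow Nat.prime_two).mp
    (Int.natCast_dvd_natCast.mp (hdvd ((2 ^ n : ℕ) : ℤ)
      (by rw [h.bone.mpr ⟨by push_cast; exact dvd_rfl, dvd_zero _⟩]; exact one_mem _)))
  push_cast at hgP hdvd
  obtain ⟨u, hu⟩ : ∃ u, u = a - a' := ⟨_, rfl⟩
  have hPeq : P = h.pat (2 ^ k) u := by
    ext v
    constructor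
    · intro hv
      obtain ⟨i, j, rfl | rfl⟩ := h.mem_S (hP hv)
      · refine ⟨i, j, Or.inl ⟨rfl, hdvd _ ?_⟩⟩
        have := P.mul_mem hv (hzP (-j))
        rwa [h.mul_bb, add_neg_cancel, ← sub_eq_add_neg] at this
      · refine ⟨i, j, Or.inr ⟨rfl, hdvd _ ?_⟩⟩
        have := P.mul_mem (P.mul_mem hv (P.inv_mem hxP)) (hzP (a - j))
        rw [h.inv_bw, h.bw_bw, h.mul_bb, show i + -a + (a - j) = i - j by ring,
          show j + -a' + (a - j) = u by rw [hu]; ring] at this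
        have := P.mul_mem this (hzP (-u))
        rwa [h.mul_bb, ← sub_eq_add_neg, add_neg_cancel] at this
    · rintro ⟨i, j, ⟨rfl, l, hl⟩ | ⟨rfl, l, hl⟩⟩
      · have := P.mul_mem (hmul _ l hgP) (hzP j)
        rwa [h.mul_bb, show 2 ^ k * l + j = i by linear_combination -hl, zero_add] at this
      · have := P.mul_mem (P.mul_mem (hmul _ l hgP) (hzP (j - a'))) hxP
        rwa [h.mul_bb, h.b_bw, show 2 ^ k * l + (j - a') + a = i by linear_combination -hl - hu,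
          show 0 + (j - a') + a' = j by ring] at this
  subst hPeq
  have hPp : IsPGroup 2 (h.pat (2 ^ k) u) := h.isPGroup.of_injective _ (Subgroup.inclusion_injective hP)
  have hN := h.pow_h
  have hcop := Nat.coprime_two_right.mpr hodd
  rcases eq_or_lt_of_le hkn with hkn' | hlt
  · -- the abelian case
    exfalso
    subst hkn'
    have hmemP : ∀ v ∈ (h.pat (2 ^ k) u), ∃ l : ℤ, v = bb l l ∨ v = bb (l + u) l * w := by
      rintro v ⟨i, j, ⟨rfl, hd⟩ | ⟨rfl, hd⟩⟩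
      · exact ⟨j, Or.inl (h.beq.mpr ⟨hd, by simp⟩)⟩
      · exact ⟨j, Or.inr (congrArg (· * w) (h.beq.mpr ⟨hd.trans (dvd_of_eq (by ring)), by simp⟩))⟩
    have hcomm : ∀ v v' : (h.pat (2 ^ k) u), Commute v v' := by
      intro v v'
      refine Subtype.ext ?_
      rw [Subgroup.coe_mul, Subgroup.coe_mul]
      obtain ⟨l, q | q⟩ := hmemP v v.2 <;> obtain ⟨l', q' | q'⟩ := hmemP v' v'.2 <;> rw [q, q']
      · rw [h.mul_bb, h.mul_bb, add_comm l]
      · rw [h.b_bw, h.bw_b, mul_left_inj, h.beq]; constructor <;> exact ⟨0, by ring⟩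
      · rw [h.b_bw, h.bw_b, mul_left_inj, h.beq]; constructor <;> exact ⟨0, by ring⟩
      · rw [h.bw_bw, h.bw_bw, h.beq]; constructor <;> exact ⟨0, by ring⟩
    rcases Int.even_or_odd' u with ⟨t, ht | ht⟩
    · -- `(h.pat (2 ^ k) u)` is a product with an involution
      let z₁ : (h.pat (2 ^ k) u) := ⟨bb 1 1, hzP 1⟩
      let x₁ : (h.pat (2 ^ k) u) := ⟨bb t (-t) * w, t, -t, Or.inr ⟨rfl, ⟨0, by rw [ht]; ring⟩⟩⟩
      have hx₁ : x₁ * x₁ = 1 := Subtype.ext (by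
        show bb t (-t) * w * (bb t (-t) * w) = 1
        rw [h.bw_bw]; simp)
      have hdec : ∀ v : (h.pat (2 ^ k) u), ∃ l : ℤ, v = z₁ ^ l ∨ v = z₁ ^ l * x₁ := by
        intro v
        obtain ⟨l, q | q⟩ := hmemP v v.2
        · exact ⟨l, Or.inl (Subtype.ext (by rw [Subgroup.coe_zpow, q]; exact (h.zpow_u l).symm))⟩
        · refine ⟨l + t, Or.inr (Subtype.ext ?_)⟩
          rw [Subgroup.coe_mul, Subgroup.coe_zpow, q]
          show _ = (bb 1 1) ^ (l + t) * (bb t (-t) * w)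
          rw [h.zpow_u, h.b_bw, mul_left_inj, h.beq, ht]; exact ⟨⟨0, by ring⟩, ⟨0, by ring⟩⟩
      set C2 := Subgroup.zpowers (z₁ * z₁) with hC2
      have hsq : ∀ v : (h.pat (2 ^ k) u), v * v ∈ C2 := by
        intro v
        obtain ⟨l, rfl | rfl⟩ := hdec v
        · exact ⟨l, by show (z₁ * z₁) ^ l = _; rw [(hcomm z₁ z₁).mul_zpow]⟩
        · refine ⟨l, ?_⟩
          show (z₁ * z₁) ^ l = _
          rw [(hcomm z₁ z₁).mul_zpow, (hcomm x₁ (z₁ ^ l)).mul_mul_mul_comm, hx₁, mul_one]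
      have hinv2 : ∀ v ∈ C2, α v ∈ C2 := by
        rintro v ⟨l, rfl⟩
        show α ((z₁ * z₁) ^ l) ∈ C2
        rw [map_zpow, map_mul]
        exact zpow_mem (hsq _) l
      obtain ⟨δ, hδ, hδd⟩ := Fus93.exists_restrict α C2 hinv2
      haveI : IsCyclic C2 := by rw [hC2]; infer_instance
      have hδ1 := eq_one_of_cyclic (hPp.to_subgroup C2) δ (hodd.of_dvd_nat hδd)
      have hfix2 : ∀ v ∈ C2, α v = v := fun v hv => by
        have := hδ ⟨v, hv⟩
        rw [hδ1] at this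
        exact this.symm
      have hroot : ∀ d : (h.pat (2 ^ k) u), d * d = 1 → ∃ l : ℤ, (d = z₁ ^ l ∨ d = z₁ ^ l * x₁) ∧ (2 : ℤ) ∣ l := by
        intro d hd
        obtain ⟨l, q⟩ := hdec d
        refine ⟨l, q, ?_⟩
        have hl : z₁ ^ l * z₁ ^ l = 1 := by
          rcases q with rfl | rfl
          · exact hd
          · rwa [(hcomm _ _).mul_mul_mul_comm, hx₁, mul_one] at hd
        have := congrArg Subtype.val hl
        rw [Subgroup.coe_mul, Subgroup.coe_zpow] at this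
        change (bb 1 1) ^ l * (bb 1 1) ^ l = 1 at this
        rw [h.zpow_u, h.mul_bb, h.bone, hN, ← two_mul] at this
        obtain ⟨d', rfl⟩ := (mul_dvd_mul_iff_left (two_ne_zero' ℤ)).mp this.1
        rw [h.h_even, mul_assoc]
        exact dvd_mul_right 2 _
      have heven : ∀ l : ℤ, (2 : ℤ) ∣ l → α (z₁ ^ l) = z₁ ^ l := by
        rintro l ⟨m, rfl⟩
        exact hfix2 _ ⟨m, by show (z₁ * z₁) ^ m = _; rw [← zpow_two, ← zpow_mul]⟩
      have hx₁fix : α x₁ = x₁ := by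
        obtain ⟨l, q | q, hl⟩ := hroot (α x₁) (by rw [← map_mul, hx₁, map_one])
        · exfalso
          have h1 := congrArg Subtype.val (α.injective (q.trans (heven l hl).symm))
          rw [Subgroup.coe_zpow] at h1
          change bb t (-t) * w = (bb 1 1) ^ l at h1
          rw [h.zpow_u] at h1
          exact h.cross h1.symm
        · refine Fus93.eq_self_of_fixed hPp hcop _ ?_
          rw [q, (hcomm (z₁ ^ l) x₁).eq, inv_mul_cancel_left]
          exact heven l hl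
      have hz₁fix : α z₁ = z₁ := by
        refine Fus93.eq_self_of_fixed hPp hcop _ ?_
        obtain ⟨l, q | q, hl⟩ := hroot (z₁⁻¹ * α z₁) (by
          rw [(hcomm _ _).mul_mul_mul_comm, ← mul_inv_rev, ← map_mul,
            hfix2 _ (Subgroup.mem_zpowers _), inv_mul_cancel])
        · rw [q, heven l hl]
        · rw [q, map_mul, heven l hl, hx₁fix]
      refine hα (MulEquiv.ext fun v => ?_)
      obtain ⟨l, rfl | rfl⟩ := hdec v
      · rw [map_zpow, hz₁fix]; rfl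
      · rw [map_mul, map_zpow, hz₁fix, hx₁fix]; rfl
    · -- `(h.pat (2 ^ k) u)` is cyclic
      refine hα ?_
      haveI : IsCyclic (h.pat (2 ^ k) u) := by
        let x₀ : (h.pat (2 ^ k) u) := ⟨bb (t + 1) (-t) * w, t + 1, -t, Or.inr ⟨rfl, ⟨0, by rw [ht]; ring⟩⟩⟩
        refine ⟨⟨x₀, fun v => ?_⟩⟩
        have hx₀ : ∀ l : ℤ, ((x₀ ^ (2 * l) : (h.pat (2 ^ k) u)) : Ω) = bb l l := fun l => by
          rw [Subgroup.coe_zpow, zpow_mul, zpow_two]
          show (bb (t + 1) (-t) * w * (bb (t + 1) (-t) * w)) ^ l = _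
          rw [h.bw_bw, show t + 1 + -t = 1 by ring, show -t + (t + 1) = 1 by ring, h.zpow_u]
        obtain ⟨l, q | q⟩ := hmemP v v.2
        · exact ⟨2 * l, Subtype.ext ((hx₀ l).trans q.symm)⟩
        · refine ⟨2 * (l + t) + 1, Subtype.ext ?_⟩
          show ((x₀ ^ (2 * (l + t) + 1) : (h.pat (2 ^ k) u)) : Ω) = (v : Ω)
          rw [zpow_add_one, Subgroup.coe_mul, hx₀, q]
          show bb (l + t) (l + t) * (bb (t + 1) (-t) * w) = _
          rw [h.b_bw, mul_left_inj, h.beq, ht]; exact ⟨⟨0, by ring⟩, ⟨0, by ring⟩⟩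
      exact eq_one_of_cyclic hPp α hodd
  by_cases hQ : k = n - 1 ∧ (2 : ℤ) ∣ u
  · obtain ⟨rfl, t, rfl⟩ := hQ
    exact ⟨t, rfl⟩
  exfalso
  refine hα (h.trivial_of_char hlt α hodd ⟨bb (2 ^ k) 0, 2 ^ k, 0, Or.inl ⟨rfl, by simp⟩⟩ rfl ?_)
  set a₀ : (h.pat (2 ^ k) u) := ⟨bb (2 ^ k) 0, 2 ^ k, 0, Or.inl ⟨rfl, by simp⟩⟩ with ha₀
  by_contra hout
  obtain ⟨i, j, ⟨q, -⟩ | ⟨q, hd⟩⟩ := (α a₀).2
  · exact hout ⟨i, j, q⟩
  have hknd : ¬ (2 : ℤ) ^ n ∣ 2 ^ k := by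
    intro q'
    have := Int.le_of_dvd (by positivity) q'
    have : (2 : ℤ) ^ k < 2 ^ n := pow_lt_pow_right₀ (by norm_num) hlt
    omega
  by_cases hkl : k + 2 ≤ n
  · have h1 : (((α a₀ * α a₀ : (h.pat (2 ^ k) u))) : Ω) ∈ h.Z := by
      rw [Subgroup.coe_mul, q, h.bw_bw, h.bb_mem_Z]; exact ⟨0, by ring⟩
    rw [← map_mul] at h1
    have h2 := h.Z_inv hknd α⁻¹ _ h1
    rw [MulAut.inv_apply_self, Subgroup.coe_mul] at h2
    change bb (2 ^ k) 0 * bb (2 ^ k) 0 ∈ h.Z at h2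
    rw [h.mul_bb, h.bb_mem_Z, add_zero, sub_zero, ← two_mul, ← pow_succ'] at h2
    have := Int.le_of_dvd (by positivity) h2
    have : (2 : ℤ) ^ (k + 1) < 2 ^ n := pow_lt_pow_right₀ (by norm_num) (by omega)
    omega
  · obtain rfl : k = n - 1 := by omega
    have h2n : 2 ^ n = 2 * 2 ^ (n - 1) := by
      rw [← pow_succ']; congr 1; omega
    have h1 : a₀ ^ (2 ^ n) = 1 := Subtype.ext (by
      rw [Subgroup.coe_pow, ← zpow_natCast]
      show (c₁ ^ ((2 : ℤ) ^ (n - 1)) * c₂ ^ (0 : ℤ)) ^ _ = 1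
      rw [zpow_zero, mul_one, ← zpow_mul, h.zone₁]
      push_cast
      exact dvd_mul_left _ _)
    have h3 := congrArg (fun z => Subtype.val (α z)) h1
    simp only [map_pow, map_one, Subgroup.coe_pow, q, OneMemClass.coe_one] at h3
    rw [h2n, pow_mul, pow_two] at h3
    change (bb i j * w * (bb i j * w)) ^ _ = 1 at h3
    rw [h.bw_bw, add_comm j i, ← zpow_natCast, ← h.zpow_u, ← zpow_mul, h.zpow_u, h.bone, hN] at h3
    push_cast at h3
    have h4 := h3.1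
    rw [mul_comm (i + j), mul_comm (2 : ℤ)] at h4
    have h5 := (mul_dvd_mul_iff_left (pow_ne_zero _ (two_ne_zero' ℤ))).mp h4
    have h6 : (2 : ℤ) ∣ i - j - u := (dvd_pow_self 2 (by have := h.two; omega : n - 1 ≠ 0)).trans hd
    exact hQ ⟨rfl, by omega⟩

end IsWr

end Cfsg.Agent.RankTwoReal36
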